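import Cfsg.Agent.Lib.Recog.HalfTransitive.Basic

/-!
Averaging: eigenspace decompositions, complements, and the semiregular case.
-/

set_option autoImplicit false
set_option linter.unusedSectionVars false

namespace Cfsg.Lib.Recog.HalfTrans

open Finset

variable {q : ℕ} [Fact q.Prime] {V : Type*} [AddCommGroup V] [Module (ZMod q) V]
  {G : Type*} [Group G] (ρ : G →* (V ≃ₗ[ZMod q] V)) {p : ℕ} [hp : Fact p.Prime]

/-- Sum over the powers of an element of order dividing `p`. -/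
def avg (p : ℕ) (x : G) (v : V) : V := ∑ j ∈ range p, ρ (x ^ j) v

theorem avg_fix {x : G} (hx : x ^ p = 1) (v : V) : ρ x (avg ρ p x v) = avg ρ p x v := by
  rw [avg, map_sum]
  simp only [← rho_mul, ← pow_succ']
  have h := sum_range_succ' (fun j => ρ (x ^ j) v) p
  rw [sum_range_succ, hx, pow_zero] at h
  exact add_right_cancel h.symm

theorem avg_of_fix {x : G} {v : V} (h : ρ x v = v) : avg ρ p x v = p • v := by
  rw [avg, sum_congr rfl fun j _ => rho_pow_fix ρ h j, sum_const, card_range]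

theorem eq_zero_of_nsmul (hpq : p ≠ q) {v : V} (h : p • v = 0) : v = 0 := by
  rw [← Nat.cast_smul_eq_nsmul (ZMod q)] at h
  exact (smul_eq_zero.1 h).resolve_left (natCast_ne_zero_of_prime hpq)

theorem fix_of_pow_fix {z : G} (hz : z ^ p = 1) {j : ℕ} (hj0 : j ≠ 0) (hjp : j < p) {v : V}
    (h : ρ (z ^ j) v = v) : ρ z v = v := by
  have hd : orderOf z ∣ p := orderOf_dvd_of_pow_eq_one hz
  have hcop : Nat.Coprime j (orderOf z) :=
    Nat.Coprime.coprime_dvd_right hd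
      ((hp.out.coprime_iff_not_dvd.2 (Nat.not_dvd_of_pos_of_lt (Nat.pos_of_ne_zero hj0) hjp)).symm)
  obtain ⟨k, hk⟩ := exists_pow_eq_self_of_coprime hcop
  rw [← hk]
  exact rho_pow_fix ρ h k

theorem sum_avg {z y : G} (hz : z ^ p = 1) (hzy : Commute y z) (hfree : ∀ v, ρ z v = v → v = 0)
    (v : V) : ∑ i ∈ range p, avg ρ p (y * z ^ i) v = p • v := by
  have h1 : ∀ i j, ρ ((y * z ^ i) ^ j) v = ρ (y ^ j) (ρ ((z ^ j) ^ i) v) := fun i j => by
    rw [(hzy.pow_right i).mul_pow, rho_mul, ← pow_mul, ← pow_mul, mul_comm i j]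
  simp only [avg, h1]
  rw [sum_comm, sum_eq_single 0]
  · simp only [pow_zero, one_pow, rho_one, sum_const, card_range]
  · intro j hj hj0
    rw [← map_sum]
    change ρ (y ^ j) (avg ρ p (z ^ j) v) = 0
    rw [hfree (avg ρ p (z ^ j) v) (fix_of_pow_fix ρ hz hj0 (mem_range.1 hj)
      (avg_fix ρ (by rw [← pow_mul, mul_comm, pow_mul, hz, one_pow]) v)), map_zero]
  · intro h; exact absurd (mem_range.2 hp.out.pos) h

theorem mul_ne_one_of_not_mem {z y : G} (hy : y ∉ Subgroup.zpowers z) (i : ℕ) : y * z ^ i ≠ 1 := by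
  intro h
  rw [mul_eq_one_iff_eq_inv] at h
  exact hy (h ▸ inv_mem (pow_mem (Subgroup.mem_zpowers z) i))

theorem mem_zpowers_of_semiregular [Nontrivial V] (hpq : p ≠ q) (hs : Semiregular ρ) {z y : G}
    (hz : z ^ p = 1) (hy : y ^ p = 1) (hzy : Commute y z) (hz1 : z ≠ 1) :
    y ∈ Subgroup.zpowers z := by
  by_contra hc
  obtain ⟨v, hv⟩ := exists_ne (0 : V)
  have hfree : ∀ x : G, x ≠ 1 → ∀ u, ρ x u = u → u = 0 := fun x hx u hu => by
    by_contra hu0; exact hx (hs u hu0 x hu)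
  have h := sum_avg ρ hz hzy (hfree z hz1) v
  rw [sum_eq_zero fun i _ => hfree _ (mul_ne_one_of_not_mem hc i) _ (avg_fix ρ (p := p) (by
    rw [(hzy.pow_right i).mul_pow, hy, ← pow_mul, mul_comm, pow_mul, hz, one_pow, one_mul]) v)] at h
  exact hv (eq_zero_of_nsmul hpq h.symm)

theorem exists_invariant_compl [Finite G] (hG : (Nat.card G : ZMod q) ≠ 0) (W : Submodule (ZMod q) V)
    (hW : ∀ g, ∀ w ∈ W, ρ g w ∈ W) :
    ∃ W' : Submodule (ZMod q) V, (∀ g, ∀ w ∈ W', ρ g w ∈ W') ∧ W ⊓ W' = ⊥ ∧ W ⊔ W' = ⊤ := by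
  classical
  haveI := Fintype.ofFinite G
  obtain ⟨C, hC⟩ := W.exists_isCompl
  let π : V →ₗ[ZMod q] V := W.subtype.comp (W.projectionOnto C hC)
  let π' : V →ₗ[ZMod q] V := (Nat.card G : ZMod q)⁻¹ •
    ∑ g : G, (ρ g⁻¹).toLinearMap.comp (π.comp (ρ g).toLinearMap)
  have happ : ∀ v, π' v = (Nat.card G : ZMod q)⁻¹ • ∑ g : G, ρ g⁻¹ (π (ρ g v)) := fun v => by
    simp [π', LinearMap.sum_apply]
  have hmem : ∀ v, π' v ∈ W := fun v => by
    rw [happ]
    exact W.smul_mem _ (W.sum_mem fun g _ => hW _ _ (SetLike.coe_mem _))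
  have hid : ∀ w ∈ W, π' w = w := fun w hw => by
    rw [happ]
    have : ∀ g : G, ρ g⁻¹ (π (ρ g w)) = w := fun g => by
      have hp : π (ρ g w) = ρ g w := by
        show ((W.projectionOnto C hC (ρ g w) : W) : V) = ρ g w
        rw [show ρ g w = ((⟨ρ g w, hW g w hw⟩ : W) : V) from rfl,
          Submodule.projectionOnto_apply_left]
      rw [hp, rho_inv_apply]
    simp only [this, sum_const, card_univ]
    rw [← Nat.card_eq_fintype_card, ← Nat.cast_smul_eq_nsmul (ZMod q), smul_smul,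
      inv_mul_cancel₀ hG, one_smul]
  have hequ : ∀ (h : G) v, π' (ρ h v) = ρ h (π' v) := fun h v => by
    rw [happ, happ, map_smul, map_sum]
    congr 1
    refine Fintype.sum_equiv (Equiv.mulRight h) _ _ fun g => ?_
    rw [Equiv.coe_mulRight, ← rho_mul, mul_inv_rev, rho_mul ρ h⁻¹, ← rho_mul ρ h h⁻¹, mul_inv_cancel,
      rho_one]
  refine ⟨LinearMap.ker π', fun g w hw => ?_, ?_, ?_⟩
  · rw [LinearMap.mem_ker] at hw ⊢
    rw [hequ, hw, map_zero]
  · rw [eq_bot_iff]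
    rintro v ⟨h1, h2⟩
    rw [Submodule.mem_bot, ← hid v h1]
    exact h2
  · rw [eq_top_iff]
    intro v _
    rw [show v = π' v + (v - π' v) by abel]
    exact Submodule.add_mem_sup (hmem v) (by
      rw [LinearMap.mem_ker, map_sub, hid _ (hmem v), sub_self])

theorem irreducible_or_semiregular [Finite G] (hρ : Function.Injective ρ) (hhalf : Half ρ)
    (hG : (Nat.card G : ZMod q) ≠ 0) (hns : ¬ Semiregular ρ) (W : Submodule (ZMod q) V)
    (hW : ∀ g, ∀ w ∈ W, ρ g w ∈ W) : W = ⊥ ∨ W = ⊤ := by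
  by_contra hc
  rw [not_or] at hc
  obtain ⟨hb, ht⟩ := hc
  obtain ⟨W', hW', hinf, hsup⟩ := exists_invariant_compl ρ hG W hW
  have hb' : W' ≠ ⊥ := fun h => ht (by rw [h, sup_bot_eq] at hsup; exact hsup)
  obtain ⟨w0, hw0, hw00⟩ := W.exists_mem_ne_zero_of_ne_bot hb
  obtain ⟨u0, hu0, hu00⟩ := W'.exists_mem_ne_zero_of_ne_bot hb'
  have key : ∀ w ∈ W, w ≠ 0 → ∀ u ∈ W', u ≠ 0 → stab ρ w = stab ρ u := by
    intro w hw hw' u hu hu'
    have hne : w + u ≠ 0 := fun h => hw' (by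
      have : w ∈ W ⊓ W' := ⟨hw, by
        rw [eq_neg_of_add_eq_zero_left h]
        exact W'.neg_mem hu⟩
      rw [hinf] at this
      exact (Submodule.mem_bot _).1 this)
    have hle : ∀ g ∈ stab ρ (w + u), g ∈ stab ρ w ∧ g ∈ stab ρ u := by
      intro g hg
      have hg' : ρ g w + ρ g u = w + u := by rw [← map_add]; exact hg
      have he : ρ g w - w = u - ρ g u := by rw [sub_eq_sub_iff_add_eq_add, hg', add_comm u w]
      have : ρ g w - w ∈ W ⊓ W' := ⟨W.sub_mem (hW g w hw) hw, by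
        rw [he]; exact W'.sub_mem hu (hW' g u hu)⟩
      rw [hinf, Submodule.mem_bot] at this
      rw [this] at he
      exact ⟨sub_eq_zero.1 this, (sub_eq_zero.1 he.symm).symm⟩
    rw [← stab_eq_of_le ρ hhalf hne hw' fun g hg => (hle g hg).1,
      ← stab_eq_of_le ρ hhalf hne hu' fun g hg => (hle g hg).2]
  refine hns (semiregular_of_common ρ hρ hhalf (stab ρ u0) hu00 rfl fun g hg v => ?_)
  have hv : v ∈ W ⊔ W' := hsup ▸ Submodule.mem_top
  obtain ⟨w, hw, u, hu, rfl⟩ := Submodule.mem_sup.1 hv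
  rw [map_add]
  congr 1
  · by_cases h : w = 0
    · rw [h, map_zero]
    · rw [← key w hw h u0 hu0 hu00] at hg; exact hg
  · by_cases h : u = 0
    · rw [h, map_zero]
    · rw [← key w0 hw0 hw00 u0 hu0 hu00, key w0 hw0 hw00 u hu h] at hg; exact hg

end Cfsg.Lib.Recog.HalfTrans
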