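import Cfsg.Agent.Lib.Recog.HalfTransitive.Average

/-!
Half-transitive groups in which every stabiliser is generated by a noncentral involution.
-/

set_option autoImplicit false
set_option linter.unusedSectionVars false

namespace Cfsg.Lib.Recog.HalfTrans

variable {q : ℕ} [hq : Fact q.Prime] {V : Type*} [AddCommGroup V] [Module (ZMod q) V] [Finite V]
  [Nontrivial V] {G : Type*} [Group G] [Finite G] (ρ : G →* (V ≃ₗ[ZMod q] V))

theorem eq_one_of_pow_two_add_one {q d b : ℕ} (hd : 1 ≤ d) (hq : 3 ≤ q) (hodd : Odd q)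
    (h : q ^ d + 1 = 2 ^ b) : d = 1 := by
  rcases Nat.even_or_odd d with he | ho
  · exfalso
    obtain ⟨e, rfl⟩ := he
    have h1 : q ^ (e + e) % 4 = 1 := by
      have hq4 : (q * q) % 4 = 1 := by
        obtain ⟨k, rfl⟩ := hodd
        have : (2 * k + 1) * (2 * k + 1) = 4 * (k * k + k) + 1 := by ring
        omega
      rw [← two_mul, pow_mul, pow_two, Nat.pow_mod, hq4, one_pow, Nat.one_mod]
    have hb : b < 2 := by
      by_contra hc
      have : 4 ∣ 2 ^ b := by
        rw [show (4 : ℕ) = 2 ^ 2 by norm_num]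
        exact Nat.pow_dvd_pow 2 (by omega)
      omega
    have : 2 ^ b ≤ 2 ^ 1 := Nat.pow_le_pow_right (by omega) (by omega)
    have : q ^ 1 ≤ q ^ (e + e) := Nat.pow_le_pow_right (by omega) hd
    simp at *
    omega
  · set s : ℤ := ∑ i ∈ Finset.range d, (-(q : ℤ)) ^ i with hs
    have hsum : s * ((q : ℤ) + 1) = (q : ℤ) ^ d + 1 := by
      have := geom_sum_mul (-(q : ℤ)) d
      rw [Odd.neg_pow ho] at this
      rw [hs]
      linear_combination -this
    have hsodd : Odd s := by
      have key : ∀ k : ℕ, Odd (∑ i ∈ Finset.range k, (-(q : ℤ)) ^ i) ↔ Odd k := by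
        intro k
        induction k with
        | zero => simp
        | succ k ih =>
          have hterm : Odd ((-(q : ℤ)) ^ k) := ((Int.odd_coe_nat q).2 hodd).neg.pow
          rw [Finset.sum_range_succ, Int.odd_add, ih, Nat.odd_add_one]
          have : ¬ Even ((-(q : ℤ)) ^ k) := Int.not_even_iff_odd.2 hterm
          tauto
      exact (key d).2 ho
    have hdvd : s.natAbs ∣ 2 ^ b := by
      rw [← h]
      refine Int.natCast_dvd_natCast.1 ?_
      rw [Int.natAbs_dvd]
      exact ⟨(q : ℤ) + 1, by push_cast; exact hsum.symm⟩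
    obtain ⟨c, -, hc⟩ := (Nat.dvd_prime_pow Nat.prime_two).1 hdvd
    have hc0 : c = 0 := by
      by_contra hne
      have : Even s.natAbs := hc ▸ (even_two.pow_of_ne_zero hne)
      exact Nat.not_even_iff_odd.2 (Int.natAbs_odd.2 hsodd) this
    rw [hc0, pow_zero] at hc
    have hq' : (3 : ℤ) ≤ q := by exact_mod_cast hq
    have hs1 : s = 1 := by
      rcases Int.natAbs_eq s with h' | h' <;> rw [hc] at h'
      · simpa using h'
      · exfalso
        rw [h'] at hsum
        nlinarith [pow_nonneg (show (0 : ℤ) ≤ q by positivity) d]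
    rw [hs1, one_mul, add_left_inj] at hsum
    have : q ^ d = q ^ 1 := by rw [pow_one]; exact_mod_cast hsum.symm
    exact Nat.pow_right_injective (by omega) this

theorem eq_one_or_nine {q d a : ℕ} (hd : 1 ≤ d) (hq : 3 ≤ q) (hodd : Odd q) (h : q ^ d = 2 ^ a + 1) :
    d = 1 ∨ (q = 3 ∧ d = 2) := by
  rcases Nat.even_or_odd d with he | ho
  · right
    obtain ⟨e, rfl⟩ := he
    have he1 : 1 ≤ e := by omega
    obtain ⟨x, hx⟩ : ∃ x, q ^ e = x + 1 := ⟨q ^ e - 1, (Nat.succ_pred_eq_of_pos (by positivity)).symm⟩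
    have hmul : x * (x + 2) = 2 ^ a := by
      rw [pow_add, hx] at h
      nlinarith
    obtain ⟨u, -, hu⟩ := (Nat.dvd_prime_pow Nat.prime_two).1 ⟨x + 2, hmul.symm⟩
    obtain ⟨v, -, hv⟩ := (Nat.dvd_prime_pow Nat.prime_two).1 (Dvd.intro_left x hmul)
    have hx2 : 2 ≤ x := by
      have : q ^ 1 ≤ q ^ e := Nat.pow_le_pow_right (by omega) he1
      simp at this
      omega
    have hu1 : u = 1 := by
      by_contra hne
      have hu2 : 2 ≤ u := by
        rcases u with _ | _ | u
        · simp at hu; omega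
        · exact absurd rfl hne
        · omega
      have h4 : 4 ∣ x := hu ▸ Nat.pow_dvd_pow 2 hu2
      have hv2 : v < 2 := by
        by_contra hc
        have : 4 ∣ x + 2 := hv ▸ Nat.pow_dvd_pow 2 (show 2 ≤ v by omega)
        omega
      have : 2 ^ v ≤ 2 ^ 1 := Nat.pow_le_pow_right (by omega) (by omega)
      omega
    rw [hu1] at hu
    have h3 : q ^ e = 3 := by omega
    have : q ^ 1 ≤ q ^ e := Nat.pow_le_pow_right (by omega) he1
    have hq3 : q = 3 := by simp at this; omega
    subst hq3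
    have : e = 1 := Nat.pow_right_injective (by omega) (h3.trans (pow_one 3).symm)
    exact ⟨rfl, by omega⟩
  · left
    set s := ∑ i ∈ Finset.range d, q ^ i with hs
    have hsodd : Odd s := by
      rw [hs, Finset.odd_sum_iff_odd_card_odd, Finset.filter_true_of_mem (fun i _ => hodd.pow),
        Finset.card_range]
      exact ho
    obtain ⟨r, rfl⟩ : ∃ r, q = r + 1 := ⟨q - 1, by omega⟩
    have hsum : s * r + 1 = (r + 1) ^ d := by rw [hs]; exact geom_sum_mul_add r d
    have hdvd : s ∣ 2 ^ a := ⟨r, by omega⟩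
    obtain ⟨c, -, hc⟩ := (Nat.dvd_prime_pow Nat.prime_two).1 hdvd
    have hc0 : c = 0 := by
      by_contra hne
      exact Nat.not_even_iff_odd.2 hsodd (hc ▸ even_two.pow_of_ne_zero hne)
    rw [hc, hc0, pow_zero, one_mul] at hsum
    have : (r + 1) ^ d = (r + 1) ^ 1 := by rw [pow_one]; omega
    exact Nat.pow_right_injective (by omega) this

theorem axial_count {z : G} {I : Finset G} (hz : ∀ v, ρ z v = -v) (hI2 : ∀ s ∈ I, s * s = 1)
    (hIz : ∀ s ∈ I, ∃ h : G, h * s * h⁻¹ = s * z) (h2 : (2 : ZMod q) ≠ 0)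
    (hex : ∀ v : V, v ≠ 0 → ∃ s ∈ I, ρ s v = v)
    (huniq : ∀ v : V, v ≠ 0 → ∀ s ∈ I, ∀ s' ∈ I, ρ s v = v → ρ s' v = v → s = s') :
    ∃ d : ℕ, 1 ≤ d ∧ Nat.card V = q ^ (2 * d) ∧ q ^ d + 1 = I.card := by
  classical
  haveI := Fintype.ofFinite V
  have hsq : ∀ s ∈ I, Nat.card V = Nat.card (fix ρ s) * Nat.card (fix ρ s) := by
    intro s hs
    have hneg : ∀ w, w ∈ fix ρ (s * z) ↔ ρ s w = -w := fun w => by
      rw [mem_fix, rho_mul, hz, map_neg, neg_eq_iff_eq_neg]
    have hc : IsCompl (fix ρ s) (fix ρ (s * z)) := by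
      refine IsCompl.of_eq (eq_bot_iff.2 ?_) (eq_top_iff.2 fun v _ => ?_)
      · rintro v ⟨h1, h1'⟩
        have h1'' := (hneg v).1 h1'
        rw [(mem_fix ρ).1 h1] at h1''
        have : (2 : ZMod q) • v = 0 := by rw [two_smul]; exact eq_neg_iff_add_eq_zero.1 h1''
        exact (Submodule.mem_bot _).2 ((smul_eq_zero.1 this).resolve_left h2)
      · have hss : ρ s (ρ s v) = v := by rw [← rho_mul, hI2 s hs, rho_one]
        rw [show v = (2 : ZMod q)⁻¹ • (v + ρ s v) + (2 : ZMod q)⁻¹ • (v - ρ s v) by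
          rw [← smul_add, show v + ρ s v + (v - ρ s v) = (2 : ZMod q) • v by rw [two_smul]; abel,
            smul_smul, inv_mul_cancel₀ h2, one_smul]]
        refine Submodule.add_mem_sup (Submodule.smul_mem _ _ ?_) (Submodule.smul_mem _ _ ?_)
        · rw [mem_fix, map_add, hss, add_comm]
        · rw [hneg, map_sub, hss, neg_sub]
    obtain ⟨h, hh⟩ := hIz s hs
    have hcard : Nat.card (fix ρ (s * z)) = Nat.card (fix ρ s) := by
      refine (Nat.card_congr (Equiv.subtypeEquiv (ρ h).toEquiv fun v => ?_)).symm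
      show ρ s v = v ↔ ρ (s * z) (ρ h v) = ρ h v
      rw [← hh, rho_mul, rho_inv_apply, rho_mul]
      exact (ρ h).injective.eq_iff.symm
    rw [← Nat.card_congr (Submodule.prodEquivOfIsCompl _ _ hc).toEquiv, Nat.card_prod, hcard]
  obtain ⟨v0, hv0⟩ := exists_ne (0 : V)
  obtain ⟨s0, hs0, hs0v⟩ := hex v0 hv0
  set Q := Nat.card (fix ρ s0) with hQ
  have hQs : ∀ s ∈ I, Nat.card (fix ρ s) = Q := fun s hs =>
    Nat.mul_self_inj.1 ((hsq s hs).symm.trans (hsq s0 hs0))
  have hcount : (Finset.univ.erase (0 : V)).card = I.card * (Q - 1) := by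
    have hu : Finset.univ.erase (0 : V) =
        I.biUnion fun s => (Finset.univ.filter fun v => ρ s v = v).erase 0 := by
      ext v
      simp only [Finset.mem_erase, Finset.mem_univ, and_true, Finset.mem_biUnion, Finset.mem_filter,
        true_and]
      constructor
      · intro hv
        obtain ⟨s, hs, hsv⟩ := hex v hv
        exact ⟨s, hs, hv, hsv⟩
      · rintro ⟨s, -, hv, -⟩; exact hv
    have hd : (I : Set G).PairwiseDisjoint
        fun s => (Finset.univ.filter fun v => ρ s v = v).erase 0 := by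
      intro s hs s' hs' hne
      rw [Function.onFun, Finset.disjoint_left]
      intro v h1 h1'
      simp only [Finset.mem_erase, Finset.mem_filter, Finset.mem_univ, true_and] at h1 h1'
      exact hne (huniq v h1.1 s hs s' hs' h1.2 h1'.2)
    rw [hu, Finset.card_biUnion hd, Finset.sum_const_nat fun s hs => ?_]
    rw [Finset.card_erase_of_mem (by simp), ← hQs s hs, Nat.card_eq_fintype_card,
      Fintype.card_subtype]
    rfl
  rw [Finset.card_erase_of_mem (Finset.mem_univ _), Finset.card_univ, ← Nat.card_eq_fintype_card,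
    hsq s0 hs0, ← hQ] at hcount
  have hQ2 : 2 ≤ Q := by
    haveI : Nontrivial (fix ρ s0) := ⟨⟨⟨v0, hs0v⟩, 0, fun h => hv0 (congrArg Subtype.val h)⟩⟩
    exact Finite.one_lt_card
  have hQI : I.card = Q + 1 := by
    refine Nat.eq_of_mul_eq_mul_right (show 0 < Q - 1 by omega) ?_
    rw [← hcount]
    obtain ⟨r, hr⟩ : ∃ r, Q = r + 1 := ⟨Q - 1, by omega⟩
    rw [hr]
    have : (r + 1) * (r + 1) = (r + 1 + 1) * (r + 1 - 1) + 1 := by
      rw [Nat.add_sub_cancel]; ring
    omega
  have hd := Module.natCard_eq_pow_finrank (K := ZMod q) (V := fix ρ s0)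
  rw [Nat.card_zmod, ← hQ] at hd
  refine ⟨Module.finrank (ZMod q) (fix ρ s0), ?_, ?_, ?_⟩
  · by_contra hc
    rw [show Module.finrank (ZMod q) (fix ρ s0) = 0 by omega, pow_zero] at hd
    omega
  · rw [hsq s0 hs0, ← hQ, hd, ← pow_add, two_mul]
  · rw [← hd, hQI]

end Cfsg.Lib.Recog.HalfTrans
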