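import Mathlib

/-!
Linear p-groups all of whose orbits on nonzero vectors have the same size: generalities.
-/

set_option autoImplicit false
set_option linter.unusedSectionVars false

namespace Cfsg.Lib.Recog.HalfTrans

variable {q : ℕ} [Fact q.Prime] {V : Type*} [AddCommGroup V] [Module (ZMod q) V]
  {G : Type*} [Group G] (ρ : G →* (V ≃ₗ[ZMod q] V))

theorem rho_mul (g h : G) (v : V) : ρ (g * h) v = ρ g (ρ h v) := by rw [map_mul]; rfl

theorem rho_one (v : V) : ρ 1 v = v := by rw [map_one]; rfl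

theorem rho_inv_apply (g : G) (v : V) : ρ g⁻¹ (ρ g v) = v := by
  rw [← rho_mul, inv_mul_cancel, rho_one]

theorem rho_pow_fix {g : G} {v : V} (h : ρ g v = v) (k : ℕ) : ρ (g ^ k) v = v := by
  induction k with
  | zero => rw [pow_zero, rho_one]
  | succ k ih => rw [pow_succ, rho_mul, h, ih]

/-- The stabiliser of a vector. -/
def stab (v : V) : Subgroup G where
  carrier := {g | ρ g v = v}
  one_mem' := rho_one ρ v
  mul_mem' := fun {g h} hg hh => by
    show ρ (g * h) v = v
    rw [rho_mul, hh, hg]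
  inv_mem' := fun {g} hg => by
    show ρ g⁻¹ v = v
    conv_lhs => rw [← hg]
    rw [rho_inv_apply]

theorem mem_stab {v : V} {g : G} : g ∈ stab ρ v ↔ ρ g v = v := Iff.rfl

/-- The vectors fixed by an element. -/
def fix (g : G) : Submodule (ZMod q) V := LinearMap.eqLocus (ρ g).toLinearMap LinearMap.id

theorem mem_fix {g : G} {v : V} : v ∈ fix ρ g ↔ ρ g v = v := Iff.rfl

/-- Equal orbit sizes. -/
def Half : Prop := ∀ v w : V, v ≠ 0 → w ≠ 0 →
  Nat.card {u : V | ∃ g : G, ρ g v = u} = Nat.card {u : V | ∃ g : G, ρ g w = u}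

theorem card_orbit_mul_card_stab [Finite G] (v : V) :
    Nat.card {u : V | ∃ g : G, ρ g v = u} * Nat.card (stab ρ v) = Nat.card G := by
  letI : MulAction G V :=
    { smul := fun g u => ρ g u, one_smul := rho_one ρ, mul_smul := rho_mul ρ }
  have h1 : MulAction.stabilizer G v = stab ρ v := Subgroup.ext fun g => Iff.rfl
  have h2 : MulAction.orbit G v = {u : V | ∃ g : G, ρ g v = u} := rfl
  rw [← h1, ← h2, Nat.card_congr (MulAction.orbitEquivQuotientStabilizer G v),
    ← Subgroup.card_eq_card_quotient_mul_card_subgroup]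

theorem card_stab_eq [Finite G] (hhalf : Half ρ) {v w : V} (hv : v ≠ 0) (hw : w ≠ 0) :
    Nat.card (stab ρ v) = Nat.card (stab ρ w) := by
  have hG : 0 < Nat.card G := Nat.card_pos
  have h1 := card_orbit_mul_card_stab ρ v
  have h2 := card_orbit_mul_card_stab ρ w
  rw [hhalf v w hv hw] at h1
  have h0 : Nat.card {u : V | ∃ g : G, ρ g w = u} ≠ 0 := fun h => by
    rw [h, zero_mul] at h2; omega
  exact Nat.eq_of_mul_eq_mul_left (Nat.pos_of_ne_zero h0) (h1.trans h2.symm)

theorem stab_eq_of_le [Finite G] (hhalf : Half ρ) {v w : V} (hv : v ≠ 0) (hw : w ≠ 0)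
    (h : stab ρ v ≤ stab ρ w) : stab ρ v = stab ρ w :=
  Subgroup.eq_of_le_of_card_ge h (card_stab_eq ρ hhalf hw hv).le

/-- Only the identity fixes a nonzero vector. -/
def Semiregular : Prop := ∀ v : V, v ≠ 0 → ∀ g : G, ρ g v = v → g = 1

theorem semiregular_of_common [Finite G] (hρ : Function.Injective ρ) (hhalf : Half ρ) (S : Subgroup G)
    {v : V} (hv : v ≠ 0) (hS : stab ρ v = S) (hall : ∀ g ∈ S, ∀ u : V, ρ g u = u) : Semiregular ρ := by
  intro w hw g hg
  have hS1 : S = ⊥ := (Subgroup.eq_bot_iff_forall S).2 fun s hs =>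
    hρ (by rw [map_one]; exact LinearEquiv.ext (hall s hs))
  have hc := card_stab_eq ρ hhalf hw hv
  rw [hS, hS1, Subgroup.card_bot] at hc
  have : g ∈ (⊥ : Subgroup G) := Subgroup.eq_bot_of_card_eq _ hc ▸ hg
  simpa using this

theorem natCast_ne_zero_of_prime {p : ℕ} [hp : Fact p.Prime] (hpq : p ≠ q) : (p : ZMod q) ≠ 0 := by
  rw [ne_eq, ZMod.natCast_eq_zero_iff]
  intro h
  exact hpq ((Nat.prime_dvd_prime_iff_eq Fact.out hp.out).1 h).symm

end Cfsg.Lib.Recog.HalfTrans
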