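import Cfsg.Agent.Lib.Recog.HalfTransitive.Average

/-!
The blocks cut out by a normal elementary abelian subgroup of order p².
-/

set_option autoImplicit false
set_option linter.unusedSectionVars false

namespace Cfsg.Lib.Recog.HalfTrans

open Finset

variable {q : ℕ} [Fact q.Prime] {V : Type*} [AddCommGroup V] [Module (ZMod q) V]
  {G : Type*} [Group G] [Finite G] (ρ : G →* (V ≃ₗ[ZMod q] V)) {p : ℕ} [hp : Fact p.Prime]

/-- The data: a central element without fixed vectors and a commuting element of order `p`. -/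
structure Pair (p : ℕ) (z y : G) : Prop where
  hz : z ^ p = 1
  hy : y ^ p = 1
  hzc : ∀ g : G, Commute g z
  hfree : ∀ v, ρ z v = v → v = 0
  hy' : y ∉ Subgroup.zpowers z
  hc : ∀ g : G, ∃ i : ℕ, g * y * g⁻¹ = y * z ^ i

variable {ρ} {z y : G}

/-- The elements cutting out the blocks. -/
def blockElt (z y : G) (i : ZMod p) : G := y * z ^ i.val

theorem Pair.blockElt_pow (P : Pair ρ p z y) (i : ZMod p) : blockElt z y i ^ p = 1 := by
  rw [blockElt, ((P.hzc y).pow_right i.val).mul_pow, P.hy, ← pow_mul, mul_comm i.val p, pow_mul, P.hz,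
    one_pow, one_mul]

theorem Pair.zpow_add (P : Pair ρ p z y) (a b : ZMod p) : z ^ (a + b).val = z ^ a.val * z ^ b.val := by
  rw [← pow_add, ZMod.val_add]
  exact (pow_eq_pow_mod _ P.hz).symm

theorem Pair.blockElt_add (P : Pair ρ p z y) (i d : ZMod p) :
    blockElt z y (i + d) = z ^ d.val * blockElt z y i := by
  rw [blockElt, blockElt, P.zpow_add, ← mul_assoc]
  exact ((P.hzc (y * z ^ i.val)).pow_right _).eq

theorem Pair.commute (P : Pair ρ p z y) (i l : ZMod p) : Commute (blockElt z y i) (blockElt z y l) := by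
  rw [blockElt, blockElt]
  exact (((Commute.refl y).mul_right ((P.hzc y).pow_right _))).mul_left
    ((((P.hzc y).symm.pow_left _)).mul_right ((Commute.refl z).pow_pow _ _))

theorem Pair.disjoint (P : Pair ρ p z y) {i l : ZMod p} (h : i ≠ l) {v : V}
    (hi : ρ (blockElt z y i) v = v) (hl : ρ (blockElt z y l) v = v) : v = 0 := by
  rw [show l = i + (l - i) by abel, P.blockElt_add, rho_mul, hi] at hl
  refine P.hfree v (fix_of_pow_fix ρ P.hz ?_ (ZMod.val_lt (l - i)) hl)
  rw [ne_eq, ZMod.val_eq_zero, sub_eq_zero]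
  exact h.symm

theorem Pair.avg_other (P : Pair ρ p z y) {i l : ZMod p} (h : i ≠ l) {v : V}
    (hl : ρ (blockElt z y l) v = v) : avg ρ p (blockElt z y i) v = 0 := by
  refine P.disjoint h (avg_fix ρ (P.blockElt_pow i) v) ?_
  rw [avg, map_sum]
  refine sum_congr rfl fun j _ => ?_
  rw [← rho_mul, ((P.commute l i).pow_right j).eq, rho_mul, hl]

theorem Pair.map_block (P : Pair ρ p z y) (g : G) : ∃ c : ZMod p, ∀ (i : ZMod p) (v : V),
    ρ (blockElt z y i) v = v → ρ (blockElt z y (i + c)) (ρ g v) = ρ g v := by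
  obtain ⟨k, hk⟩ := P.hc g
  refine ⟨(k : ZMod p), fun i v hv => ?_⟩
  have he : blockElt z y (i + (k : ZMod p)) * g = g * blockElt z y i := by
    rw [add_comm, blockElt, blockElt, P.zpow_add, ← mul_assoc y]
    have : z ^ ((k : ZMod p)).val = z ^ k := by rw [ZMod.val_natCast]; exact (pow_eq_pow_mod _ P.hz).symm
    rw [this, ← hk, mul_assoc, ← ((P.hzc g).pow_right i.val).eq]
    group
  rw [← rho_mul, he, rho_mul, hv]

theorem Pair.sum_blocks (P : Pair ρ p z y) (v : V) :
    ∑ i : ZMod p, avg ρ p (blockElt z y i) v = p • v := by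
  rw [← sum_avg ρ P.hz (P.hzc y) P.hfree v]
  refine Finset.sum_nbij' (fun i => i.val) (fun j => (j : ZMod p)) ?_ ?_ ?_ ?_ ?_
  · exact fun i _ => mem_range.2 (ZMod.val_lt i)
  · exact fun j _ => mem_univ _
  · exact fun i _ => ZMod.natCast_zmod_val i
  · exact fun j hj => by rw [ZMod.val_natCast, Nat.mod_eq_of_lt (mem_range.1 hj)]
  · exact fun i _ => rfl

theorem Pair.fix_all (P : Pair ρ p z y) (hpq : p ≠ q) {g : G}
    (h : ∀ (i : ZMod p) (v : V), ρ (blockElt z y i) v = v → ρ g v = v) (v : V) : ρ g v = v := by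
  have h1 : ρ g (p • v) = p • v := by
    rw [← P.sum_blocks v, map_sum]
    exact sum_congr rfl fun i _ => h i _ (avg_fix ρ (P.blockElt_pow i) v)
  rw [map_nsmul, ← sub_eq_zero, ← smul_sub] at h1
  exact sub_eq_zero.1 (eq_zero_of_nsmul hpq h1)

theorem Pair.exists_other (P : Pair ρ p z y) (hρ : Function.Injective ρ) (hpq : p ≠ q) (i : ZMod p) :
    ∃ l : ZMod p, l ≠ i ∧ ∃ v : V, v ≠ 0 ∧ ρ (blockElt z y l) v = v := by
  by_contra hc
  push Not at hc
  refine mul_ne_one_of_not_mem P.hy' i.val (hρ ?_)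
  rw [map_one]
  refine LinearEquiv.ext fun v => P.fix_all hpq (fun l u hu => ?_) v
  by_cases hl : l = i
  · subst hl; exact hu
  · by_cases hu0 : u = 0
    · rw [hu0, map_zero]
    · exact absurd hu (hc l hl u hu0)

theorem Pair.stab_sum (P : Pair ρ p z y) (hpq : p ≠ q) (hp2 : p ≠ 2) {i l : ZMod p} (hil : i ≠ l)
    {v w : V} (hv : ρ (blockElt z y i) v = v) (hw : ρ (blockElt z y l) w = w) (hv0 : v ≠ 0)
    (hw0 : w ≠ 0) {g : G} (hg : ρ g (v + w) = v + w) : ρ g v = v ∧ ρ g w = w := by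
  obtain ⟨c, hc⟩ := P.map_block g
  have hgv := hc i v hv
  have hgw := hc l w hw
  rw [map_add] at hg
  have hlin : ∀ x a b, avg ρ p x (a + b) = avg ρ p x a + avg ρ p x b := fun x a b => by
    simp [avg, sum_add_distrib]
  have key : ∀ (a : ZMod p), avg ρ p (blockElt z y a) (ρ g v) + avg ρ p (blockElt z y a) (ρ g w) =
      avg ρ p (blockElt z y a) v + avg ρ p (blockElt z y a) w := fun a => by
    rw [← hlin, ← hlin, hg]
  have hinj : ∀ a b : V, p • a = p • b → a = b := fun a b h => by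
    rw [← sub_eq_zero, ← smul_sub] at h
    exact sub_eq_zero.1 (eq_zero_of_nsmul hpq h)
  by_cases hc0 : c = 0
  · subst hc0
    rw [add_zero] at hgv hgw
    have h1 := key i
    have h2 := key l
    rw [P.avg_other hil hgw, P.avg_other hil hw, avg_of_fix ρ hgv, avg_of_fix ρ hv, add_zero,
      add_zero] at h1
    rw [P.avg_other hil.symm hgv, P.avg_other hil.symm hv, avg_of_fix ρ hgw, avg_of_fix ρ hw, zero_add,
      zero_add] at h2
    exact ⟨hinj _ _ h1, hinj _ _ h2⟩
  · exfalso
    have h1 := key i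
    have hne : i ≠ i + c := fun h => hc0 (left_eq_add.1 h)
    have hne' : l ≠ l + c := fun h => hc0 (left_eq_add.1 h)
    rw [P.avg_other hne hgv, P.avg_other hil hw, avg_of_fix ρ hv, zero_add, add_zero] at h1
    have hli : l + c = i := by
      by_contra hne2
      rw [P.avg_other (Ne.symm hne2) hgw] at h1
      exact hv0 (eq_zero_of_nsmul hpq h1.symm)
    have h2 := key l
    rw [P.avg_other hne' hgw, P.avg_other hil.symm hv, avg_of_fix ρ hw, zero_add, add_zero] at h2
    have hic : i + c = l := by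
      by_contra hne2
      rw [P.avg_other (Ne.symm hne2) hgv] at h2
      exact hw0 (eq_zero_of_nsmul hpq h2.symm)
    have hcc : (2 : ZMod p) * c = 0 := by
      rw [← hli, add_assoc, add_eq_left] at hic
      rw [two_mul]; exact hic
    have h2' : (2 : ZMod p) ≠ 0 := by
      rw [show (2 : ZMod p) = ((2 : ℕ) : ZMod p) by norm_num, ne_eq, ZMod.natCast_eq_zero_iff]
      exact fun h => hp2 ((Nat.prime_dvd_prime_iff_eq hp.out Nat.prime_two).1 h)
    exact hc0 ((mul_eq_zero.1 hcc).resolve_left h2')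

theorem Pair.eq_two (P : Pair ρ p z y) (hρ : Function.Injective ρ) (hhalf : Half ρ) (hpq : p ≠ q)
    (hns : ¬ Semiregular ρ) : p = 2 := by
  by_contra hp2
  obtain ⟨i, -, v0, hv0, hv0'⟩ := P.exists_other hρ hpq 0
  obtain ⟨l, hli, w0, hw0, hw0'⟩ := P.exists_other hρ hpq i
  have key : ∀ (a b : ZMod p) (v w : V), a ≠ b → ρ (blockElt z y a) v = v → ρ (blockElt z y b) w = w →
      v ≠ 0 → w ≠ 0 → stab ρ v = stab ρ w := by
    intro a b v w hab hv hw hv' hw'
    have hne : v + w ≠ 0 := fun h => hv' (P.disjoint hab hv (by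
      rw [eq_neg_of_add_eq_zero_left h, map_neg, hw]))
    rw [← stab_eq_of_le ρ hhalf hne hv' fun g hg => (P.stab_sum hpq hp2 hab hv hw hv' hw' hg).1,
      ← stab_eq_of_le ρ hhalf hne hw' fun g hg => (P.stab_sum hpq hp2 hab hv hw hv' hw' hg).2]
  refine hns (semiregular_of_common ρ hρ hhalf (stab ρ v0) hv0 rfl fun g hg v =>
    P.fix_all hpq (fun a u hu => ?_) v)
  by_cases hu0 : u = 0
  · rw [hu0, map_zero]
  by_cases hai : a = i
  · subst hai
    rw [key a l v0 w0 hli.symm hv0' hw0' hv0 hw0, ← key a l u w0 hli.symm hu hw0' hu0 hw0] at hg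
    exact hg
  · rw [key i a v0 u (Ne.symm hai) hv0' hu hv0 hu0] at hg
    exact hg

end Cfsg.Lib.Recog.HalfTrans
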