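import Cfsg.Agent.Lib.Recog.HalfTransitive.Average

/-!
Half-transitivity with two blocks.
-/

set_option autoImplicit false
set_option linter.unusedSectionVars false

namespace Cfsg.Lib.Recog.HalfTrans

variable {q : ℕ} [hq : Fact q.Prime] {V : Type*} [AddCommGroup V] [Module (ZMod q) V] [Finite V]
  {G : Type*} [Group G] [Finite G] (ρ : G →* (V ≃ₗ[ZMod q] V))

/-- Two blocks permuted by the group. -/
structure TwoBlocks (A C : Submodule (ZMod q) V) : Prop where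
  hAC : IsCompl A C
  hA : A ≠ ⊥
  hC : C ≠ ⊥
  hperm : ∀ g : G, ((∀ v ∈ A, ρ g v ∈ A) ∧ ∀ w ∈ C, ρ g w ∈ C) ∨
    ((∀ v ∈ A, ρ g v ∈ C) ∧ ∀ w ∈ C, ρ g w ∈ A)

variable {ρ} {A C : Submodule (ZMod q) V}

theorem eq_of_add {A C : Submodule (ZMod q) V} (h : IsCompl A C) {a a' c c' : V} (ha : a ∈ A)
    (ha' : a' ∈ A) (hc : c ∈ C) (hc' : c' ∈ C) (e : a + c = a' + c') : a = a' ∧ c = c' := by
  have he : a - a' = c' - c := by rw [sub_eq_sub_iff_add_eq_add, e, add_comm a']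
  have hz : a - a' = 0 := Submodule.disjoint_def.1 h.disjoint _ (A.sub_mem ha ha')
    (he ▸ C.sub_mem hc' hc)
  rw [hz] at he
  exact ⟨sub_eq_zero.1 hz, (sub_eq_zero.1 he.symm).symm⟩

theorem zero_of_both {A C : Submodule (ZMod q) V} (h : IsCompl A C) {v : V} (ha : v ∈ A) (hc : v ∈ C) :
    v = 0 := Submodule.disjoint_def.1 h.disjoint v ha hc

theorem TwoBlocks.stab_sum (T : TwoBlocks ρ A C) {v w : V} (hv : v ∈ A) (hw : w ∈ C) {g : G}
    (hg : ρ g (v + w) = v + w) : (ρ g v = v ∧ ρ g w = w) ∨ (ρ g v = w ∧ ρ g w = v) := by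
  rw [map_add] at hg
  rcases T.hperm g with ⟨h1, h2⟩ | ⟨h1, h2⟩
  · exact Or.inl (eq_of_add T.hAC (h1 v hv) hv (h2 w hw) hw hg)
  · rw [add_comm (ρ g v)] at hg
    obtain ⟨e1, e2⟩ := eq_of_add T.hAC (h2 w hw) hv (h1 v hv) hw hg
    exact Or.inr ⟨e2, e1⟩

theorem TwoBlocks.stab_eq (T : TwoBlocks ρ A C) (hhalf : Half ρ) {v w : V} (hv : v ∈ A) (hw : w ∈ C)
    (hv0 : v ≠ 0) (hw0 : w ≠ 0) (hno : ∀ g : G, ρ g v ≠ w) : stab ρ v = stab ρ w := by
  have hne : v + w ≠ 0 := fun h => hv0 (zero_of_both T.hAC hv (by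
    rw [eq_neg_of_add_eq_zero_left h]; exact C.neg_mem hw))
  have hle : ∀ g ∈ stab ρ (v + w), ρ g v = v ∧ ρ g w = w := fun g hg =>
    (T.stab_sum hv hw hg).resolve_right fun h => hno g h.1
  rw [← stab_eq_of_le ρ hhalf hne hv0 fun g hg => (hle g hg).1,
    ← stab_eq_of_le ρ hhalf hne hw0 fun g hg => (hle g hg).2]

/-- The part of an orbit inside a set. -/
def orbIn (ρ : G →* (V ≃ₗ[ZMod q] V)) (v : V) (U : Submodule (ZMod q) V) : Set V :=
  {u | (∃ g : G, ρ g v = u) ∧ u ∈ U}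

theorem TwoBlocks.orbit_split (T : TwoBlocks ρ A C) {v : V} (hv : v ∈ A ∨ v ∈ C) (hv0 : v ≠ 0)
    {h : G} (hA : ∀ a ∈ A, ρ h a ∈ C) (hC : ∀ c ∈ C, ρ h c ∈ A) :
    Nat.card {u : V | ∃ g : G, ρ g v = u} = 2 * (orbIn ρ v C).ncard ∧
      Nat.card {u : V | ∃ g : G, ρ g v = u} = 2 * (orbIn ρ v A).ncard := by
  have himg : ∀ g : G, ρ g v ∈ A ∨ ρ g v ∈ C := fun g => by
    rcases T.hperm g with ⟨h1, h2⟩ | ⟨h1, h2⟩ <;> rcases hv with h' | h'
    · exact Or.inl (h1 v h')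
    · exact Or.inr (h2 v h')
    · exact Or.inr (h1 v h')
    · exact Or.inl (h2 v h')
  have hu : {u : V | ∃ g : G, ρ g v = u} = orbIn ρ v A ∪ orbIn ρ v C := by
    ext u
    constructor
    · rintro ⟨g, rfl⟩
      exact (himg g).imp (fun h => ⟨⟨g, rfl⟩, h⟩) (fun h => ⟨⟨g, rfl⟩, h⟩)
    · rintro (h | h) <;> exact h.1
  have hd : Disjoint (orbIn ρ v A) (orbIn ρ v C) := by
    rw [Set.disjoint_left]
    rintro u ⟨⟨g, rfl⟩, ha⟩ ⟨-, hc⟩
    exact hv0 ((LinearEquiv.map_eq_zero_iff _).1 (zero_of_both T.hAC ha hc))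
  have hle : ∀ U W : Submodule (ZMod q) V, (∀ a ∈ U, ρ h a ∈ W) →
      (orbIn ρ v U).ncard ≤ (orbIn ρ v W).ncard := fun U W hUW =>
    Set.ncard_le_ncard_of_injOn (fun u => ρ h u)
      (fun u ⟨⟨g, hg⟩, hU⟩ => ⟨⟨h * g, by rw [rho_mul, hg]⟩, hUW u hU⟩)
      (fun a _ b _ hab => (ρ h).injective hab) (Set.toFinite _)
  have heq : (orbIn ρ v A).ncard = (orbIn ρ v C).ncard := le_antisymm (hle A C hA) (hle C A hC)
  rw [Nat.card_coe_set_eq, hu, Set.ncard_union_eq hd (Set.toFinite _) (Set.toFinite _), heq]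
  omega

theorem TwoBlocks.transitive (T : TwoBlocks ρ A C) (hρ : Function.Injective ρ) (hhalf : Half ρ)
    (hns : ¬ Semiregular ρ) {v w : V} (hv : v ∈ A) (hw : w ∈ C) (hv0 : v ≠ 0) (hw0 : w ≠ 0) :
    ∃ g : G, ρ g v = w := by
  by_contra hno
  push Not at hno
  set S := stab ρ v with hS
  have hR : ∀ u ∈ C, u ≠ 0 → (∀ g : G, ρ g v ≠ u) → ∀ s ∈ S, ρ s u = u := fun u hu hu0 h s hs => by
    rw [hS, T.stab_eq hhalf hv hu hv0 hu0 h] at hs; exact hs
  have hSC : ∀ u ∈ C, ∀ s ∈ S, ρ s u = u := by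
    by_cases hsw : ∃ h : G, (∀ a ∈ A, ρ h a ∈ C) ∧ ∀ c ∈ C, ρ h c ∈ A
    · obtain ⟨h, hhA, hhC⟩ := hsw
      let U : Submodule (ZMod q) V := C ⊓ ⨅ s : S, fix ρ (s : G)
      have hUC : U ≤ C := inf_le_left
      suffices hU : U = C by
        intro u hu s hs
        rw [← hU] at hu
        exact Submodule.mem_iInf _ |>.1 hu.2 ⟨s, hs⟩
      by_contra hne
      have hlt : U < C := lt_of_le_of_ne hUC hne
      have hdvd : Nat.card U ∣ Nat.card C := AddSubgroup.card_dvd_of_le (H := U.toAddSubgroup)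
        (K := C.toAddSubgroup) hUC
      have hcard : Nat.card U < Nat.card C := by
        have := Set.ncard_lt_ncard (SetLike.coe_ssubset_coe.2 hlt) (Set.toFinite _)
        rwa [← Nat.card_coe_set_eq, ← Nat.card_coe_set_eq] at this
      have h2 : 2 * Nat.card U ≤ Nat.card C := by
        obtain ⟨k, hk⟩ := hdvd
        rw [hk] at hcard ⊢
        rcases k with _ | _ | k
        · simp at hcard
        · simp at hcard
        · nlinarith
      set R : Set V := {u | u ∈ C ∧ u ≠ 0 ∧ ∀ g : G, ρ g v ≠ u}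
      have hsplit : (C : Set V) ⊆ insert 0 (R ∪ orbIn ρ v C) := by
        intro u hu
        by_cases h0 : u = 0
        · exact Or.inl h0
        · by_cases hg : ∀ g : G, ρ g v ≠ u
          · exact Or.inr (Or.inl ⟨hu, h0, hg⟩)
          · push Not at hg; exact Or.inr (Or.inr ⟨hg, hu⟩)
      have hOR : (orbIn ρ v C).ncard ≤ R.ncard := by
        have e1 := (T.orbit_split (Or.inl hv) hv0 hhA hhC).1
        have e2 := (T.orbit_split (Or.inr hw) hw0 hhA hhC).1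
        rw [hhalf v w hv0 hw0] at e1
        refine le_trans (by omega : (orbIn ρ v C).ncard ≤ (orbIn ρ w C).ncard)
          (Set.ncard_le_ncard ?_ (Set.toFinite _))
        rintro u ⟨⟨g, rfl⟩, hu⟩
        refine ⟨hu, fun h0 => hw0 ((LinearEquiv.map_eq_zero_iff _).1 h0), fun g' hg' => ?_⟩
        exact hno (g⁻¹ * g') (by rw [rho_mul, hg', rho_inv_apply])
      have hRU : R ⊆ (U : Set V) \ {0} := fun u hu =>
        ⟨⟨hu.1, Submodule.mem_iInf _ |>.2 fun s => hR u hu.1 hu.2.1 hu.2.2 s s.2⟩, hu.2.1⟩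
      have h3 : R.ncard + 1 ≤ Nat.card U := by
        have := Set.ncard_le_ncard hRU (Set.toFinite _)
        rw [Set.ncard_sdiff_singleton_of_mem U.zero_mem, ← Nat.card_coe_set_eq (U : Set V)] at this
        have : 0 < Nat.card U := Nat.card_pos
        (try simp only [SetLike.coe_sort_coe] at *)
        omega
      have h4 : Nat.card C ≤ 1 + (R.ncard + (orbIn ρ v C).ncard) := by
        have := Set.ncard_le_ncard hsplit (Set.toFinite _)
        rw [← Nat.card_coe_set_eq (C : Set V)] at this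
        have h5 := Set.ncard_insert_le (0 : V) (R ∪ orbIn ρ v C)
        have h6 := Set.ncard_union_le R (orbIn ρ v C)
        (try simp only [SetLike.coe_sort_coe] at *)
        omega
      omega
    · intro u hu s hs
      by_cases h0 : u = 0
      · rw [h0, map_zero]
      refine hR u hu h0 (fun g hg => ?_) s hs
      rcases T.hperm g with ⟨h1, -⟩ | hg'
      · exact h0 (zero_of_both T.hAC (hg ▸ h1 v hv) hu)
      · exact hsw ⟨g, hg'⟩
  have hSw : ∀ u ∈ C, u ≠ 0 → stab ρ u = S := fun u hu hu0 =>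
    (stab_eq_of_le ρ hhalf hv0 hu0 fun s hs => hSC u hu s hs).symm
  refine hns (semiregular_of_common ρ hρ hhalf S hv0 rfl fun s hs x => ?_)
  obtain ⟨a, ha, c, hc, rfl⟩ := Submodule.mem_sup.1
    (show x ∈ A ⊔ C by rw [T.hAC.sup_eq_top]; exact Submodule.mem_top)
  rw [map_add, hSC c hc s hs]
  congr 1
  by_cases ha0 : a = 0
  · rw [ha0, map_zero]
  by_cases hall : ∀ g : G, ρ g a ≠ w
  · rw [← hSw w hw hw0, ← T.stab_eq hhalf ha hw ha0 hw0 hall] at hs; exact hs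
  push Not at hall
  obtain ⟨g, hg⟩ := hall
  have hgperm : (∀ x ∈ A, ρ g x ∈ C) ∧ ∀ c ∈ C, ρ g c ∈ A := by
    rcases T.hperm g with ⟨h1, -⟩ | h
    · exact absurd (zero_of_both T.hAC (hg ▸ h1 a ha) hw) hw0
    · exact h
  set u := ρ g v with hu
  have hu0 : u ≠ 0 := fun h => hv0 ((LinearEquiv.map_eq_zero_iff _).1 h)
  by_cases hall2 : ∀ g' : G, ρ g' a ≠ u
  · rw [← hSw u (hgperm.1 v hv) hu0,
      ← T.stab_eq hhalf ha (hgperm.1 v hv) ha0 hu0 hall2] at hs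
    exact hs
  push Not at hall2
  obtain ⟨g', hg'⟩ := hall2
  refine absurd ?_ (hno (g * g'⁻¹ * g))
  rw [rho_mul, rho_mul, ← hu, ← hg', rho_inv_apply, hg]

theorem TwoBlocks.card_eq (T : TwoBlocks ρ A C) (hρ : Function.Injective ρ) (hhalf : Half ρ)
    (hns : ¬ Semiregular ρ) (hG : IsPGroup 2 G) :
    (∃ a : ℕ, Nat.card A = 2 ^ a + 1) ∧ Nat.card V = Nat.card A * Nat.card A := by
  obtain ⟨v, hv, hv0⟩ := A.exists_mem_ne_zero_of_ne_bot T.hA
  obtain ⟨w, hw, hw0⟩ := C.exists_mem_ne_zero_of_ne_bot T.hC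
  obtain ⟨g, hg⟩ := T.transitive hρ hhalf hns hv hw hv0 hw0
  obtain ⟨hhA, hhC⟩ : (∀ x ∈ A, ρ g x ∈ C) ∧ ∀ c ∈ C, ρ g c ∈ A := by
    rcases T.hperm g with ⟨h1, -⟩ | h
    · exact absurd (zero_of_both T.hAC (hg ▸ h1 v hv) hw) hw0
    · exact h
  obtain ⟨-, e2⟩ := T.orbit_split (Or.inl hv) hv0 hhA hhC
  have hO : orbIn ρ v A = (A : Set V) \ {0} := by
    ext u
    constructor
    · rintro ⟨⟨g', rfl⟩, hu⟩
      exact ⟨hu, fun h => hv0 ((LinearEquiv.map_eq_zero_iff _).1 h)⟩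
    · rintro ⟨hu, hu0⟩
      obtain ⟨g', hg'⟩ := T.transitive hρ hhalf hns hu hw hu0 hw0
      exact ⟨⟨g'⁻¹ * g, by rw [rho_mul, hg, ← hg', rho_inv_apply]⟩, hu⟩
  rw [hO, Set.ncard_sdiff_singleton_of_mem A.zero_mem, ← Nat.card_coe_set_eq (A : Set V)] at e2
  have hdvd : Nat.card {u : V | ∃ g : G, ρ g v = u} ∣ Nat.card G :=
    ⟨_, (card_orbit_mul_card_stab ρ v).symm⟩
  obtain ⟨k, hk⟩ := IsPGroup.iff_card.1 hG
  rw [e2, hk] at hdvd
  obtain ⟨a, -, ha⟩ := (Nat.dvd_prime_pow Nat.prime_two).1 (dvd_of_mul_left_dvd hdvd)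
  have hpos : 0 < Nat.card A := Nat.card_pos
  refine ⟨⟨a, ?_⟩, ?_⟩
  · simp only [SetLike.coe_sort_coe] at ha
    omega
  · have hAC : Nat.card A = Nat.card C := le_antisymm
      (Nat.card_le_card_of_injective (fun a => (⟨ρ g a, hhA a a.2⟩ : C))
        fun a b h => Subtype.ext ((ρ g).injective (congrArg Subtype.val h)))
      (Nat.card_le_card_of_injective (fun a => (⟨ρ g a, hhC a a.2⟩ : A))
        fun a b h => Subtype.ext ((ρ g).injective (congrArg Subtype.val h)))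
    rw [← Nat.card_congr (Submodule.prodEquivOfIsCompl A C T.hAC).toEquiv, Nat.card_prod, ← hAC]

theorem exists_smul_of_card {A : Submodule (ZMod q) V} (hA : Nat.card A = q) {e x : V} (he : e ∈ A)
    (he0 : e ≠ 0) (hx : x ∈ A) : ∃ a : ZMod q, x = a • e := by
  have hinj : Function.Injective (fun a : ZMod q => (⟨a • e, A.smul_mem a he⟩ : A)) :=
    fun a b h => smul_left_injective _ he0 (congrArg Subtype.val h)
  obtain ⟨a, ha⟩ := (hinj.bijective_of_nat_card_le (by rw [hA, Nat.card_zmod])).2 ⟨x, hx⟩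
  exact ⟨a, (congrArg Subtype.val ha).symm⟩

theorem TwoBlocks.monomial (T : TwoBlocks ρ A C) (hρ : Function.Injective ρ) (hhalf : Half ρ)
    (hns : ¬ Semiregular ρ) (hq2 : q ≠ 2) (hcard : Nat.card A = q) (hcardC : Nat.card C = q) :
    ∃ e : V ≃ₗ[ZMod q] (Fin 2 → ZMod q), ∀ f : (Fin 2 → ZMod q) ≃ₗ[ZMod q] (Fin 2 → ZMod q),
      (∃ g : G, f = e.symm.trans ((ρ g).trans e)) ↔
        ∃ a s : ZMod q, a ≠ 0 ∧ (s = 1 ∨ s = -1) ∧
          ((∀ v, f v = ![a * v 0, s * a⁻¹ * v 1]) ∨ (∀ v, f v = ![s * a⁻¹ * v 1, a * v 0])) := by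
  classical
  obtain ⟨e0, he0, he00⟩ := A.exists_mem_ne_zero_of_ne_bot T.hA
  obtain ⟨e1, he1, he10⟩ := C.exists_mem_ne_zero_of_ne_bot T.hC
  have hext : ∀ g h : G, ρ g e0 = ρ h e0 → ρ g e1 = ρ h e1 → g = h := by
    intro g h h0 h1
    refine hρ (LinearEquiv.ext fun x => ?_)
    obtain ⟨a, ha, c, hc, rfl⟩ := Submodule.mem_sup.1
      (show x ∈ A ⊔ C by rw [T.hAC.sup_eq_top]; exact Submodule.mem_top)
    obtain ⟨s, rfl⟩ := exists_smul_of_card hcard he0 he00 ha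
    obtain ⟨t, rfl⟩ := exists_smul_of_card hcardC he1 he10 hc
    simp only [map_add, map_smul, h0, h1]
  have hswap : ∀ r : ZMod q, r ≠ 0 → ∃ g : G, ρ g e0 = r • e1 ∧ ρ g e1 = r⁻¹ • e0 := by
    intro r hr
    by_contra hc
    have hre : r • e1 ∈ C := C.smul_mem r he1
    have hre0 : r • e1 ≠ 0 := smul_ne_zero hr he10
    have hne : e0 + r • e1 ≠ 0 := fun h => he00 (zero_of_both T.hAC he0 (by
      rw [eq_neg_of_add_eq_zero_left h]; exact C.neg_mem hre))
    refine hns (semiregular_of_common ρ hρ hhalf (stab ρ (e0 + r • e1)) hne rfl fun g hg u => ?_)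
    rcases T.stab_sum he0 hre hg with ⟨h1, h2⟩ | ⟨h1, h2⟩
    · rw [map_smul] at h2
      have hg1 : g = 1 := hext g 1 (by rw [h1, rho_one]) (by
        rw [rho_one]; exact smul_right_injective V hr h2)
      rw [hg1, rho_one]
    · refine absurd ⟨g, h1, ?_⟩ hc
      rw [map_smul] at h2
      rw [← h2, smul_smul, inv_mul_cancel₀ hr, one_smul]
  obtain ⟨τ, hτ0, hτ1⟩ := hswap 1 one_ne_zero
  simp only [inv_one, one_smul] at hτ0 hτ1
  have hD : ∀ a : ZMod q, a ≠ 0 → ∃ g : G, ρ g e0 = a • e0 ∧ ρ g e1 = a⁻¹ • e1 := by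
    intro a ha
    obtain ⟨g, hg0, hg1⟩ := hswap a⁻¹ (inv_ne_zero ha)
    rw [inv_inv] at hg1
    exact ⟨g * τ, by rw [rho_mul, hτ0, hg1], by rw [rho_mul, hτ1, hg0]⟩
  -- the stabiliser of `e0` has order two
  have h2 : Nat.card (stab ρ (e0 + e1)) = 2 := by
    have hpre : ∀ g ∈ stab ρ (e0 + e1), g = 1 ∨ g = τ := by
      intro g hg
      rcases T.stab_sum he0 he1 hg with ⟨h1, h2⟩ | ⟨h1, h2⟩
      · exact Or.inl (hext g 1 (by rw [h1, rho_one]) (by rw [h2, rho_one]))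
      · exact Or.inr (hext g τ (by rw [h1, hτ0]) (by rw [h2, hτ1]))
    have hset : (stab ρ (e0 + e1) : Set G) = {1, τ} := by
      ext g
      constructor
      · exact fun hg => hpre g hg
      · rintro (rfl | rfl)
        · exact rho_one ρ _
        · show ρ g (e0 + e1) = e0 + e1
          rw [map_add, hτ0, hτ1, add_comm]
    have hτne : (1 : G) ≠ τ := by
      rintro rfl
      rw [rho_one] at hτ0
      exact he00 (zero_of_both T.hAC he0 (hτ0 ▸ he1))
    rw [← SetLike.coe_sort_coe, Nat.card_coe_set_eq, hset, Set.ncard_pair hτne]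
  have hne : e0 + e1 ≠ 0 := fun h => he00 (zero_of_both T.hAC he0 (by
    rw [eq_neg_of_add_eq_zero_left h]; exact C.neg_mem he1))
  rw [card_stab_eq ρ hhalf hne he00] at h2
  obtain ⟨s, hs⟩ : ∃ s : stab ρ e0, s ≠ 1 := by
    haveI : Nontrivial (stab ρ e0) := Finite.one_lt_card_iff_nontrivial.1 (by omega)
    exact exists_ne 1
  have hss : ∀ x : stab ρ e0, x = 1 ∨ x = s := by
    intro x
    by_contra hc
    rw [not_or] at hc
    haveI := Fintype.ofFinite (stab ρ e0)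
    have := Finset.card_le_univ ({1, s, x} : Finset (stab ρ e0))
    rw [Finset.card_insert_of_notMem (by simp [Ne.symm hs, Ne.symm hc.1]),
      Finset.card_pair (Ne.symm hc.2), ← Nat.card_eq_fintype_card, h2] at this
    omega
  have hpres : ∀ g : G, ρ g e0 = e0 → ∃ b : ZMod q, ρ g e1 = b • e1 := by
    intro g hg
    rcases T.hperm g with ⟨-, h⟩ | ⟨h, -⟩
    · exact exists_smul_of_card hcardC he1 he10 (h e1 he1)
    · exact absurd (zero_of_both T.hAC he0 (hg ▸ h e0 he0)) he00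
  obtain ⟨b, hb⟩ := hpres s s.2
  have hb1 : b ≠ 1 := fun h => hs (Subtype.ext (hext _ _ (by rw [s.2]; exact (rho_one ρ _).symm)
    (by rw [hb, h, one_smul]; exact (rho_one ρ _).symm)))
  have hbb : b = -1 := by
    have hss1 : s * s = 1 := (hss (s * s)).resolve_right fun h => hs (mul_eq_left.1 h)
    have h := congrArg (fun x : stab ρ e0 => ρ (x : G) e1) hss1
    simp only [Subgroup.coe_mul, rho_mul, hb, map_smul, smul_smul, Subgroup.coe_one, rho_one] at h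
    have hb2 : b * b = 1 := smul_left_injective (ZMod q) he10 (h.trans (one_smul _ e1).symm)
    exact (mul_self_eq_one_iff.1 hb2).resolve_left hb1
  have hS : ∀ g : G, ρ g e0 = e0 → ∃ t : ZMod q, (t = 1 ∨ t = -1) ∧ ρ g e1 = t • e1 := by
    intro g hg
    rcases hss ⟨g, hg⟩ with h | h
    · exact ⟨1, Or.inl rfl, by rw [show g = 1 from congrArg Subtype.val h, rho_one, one_smul]⟩
    · exact ⟨-1, Or.inr rfl, by rw [show g = (s : G) from congrArg Subtype.val h, hb, hbb]⟩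
  have hdiag : ∀ g : G, ρ g e0 ∈ A → ∃ a t : ZMod q, a ≠ 0 ∧ (t = 1 ∨ t = -1) ∧
      ρ g e0 = a • e0 ∧ ρ g e1 = (t * a⁻¹) • e1 := by
    intro g hg
    obtain ⟨a, ha⟩ := exists_smul_of_card hcard he0 he00 hg
    have ha0 : a ≠ 0 := fun h => he00 ((LinearEquiv.map_eq_zero_iff _).1 (by rw [ha, h, zero_smul]))
    obtain ⟨d, hd0, hd1⟩ := hD a ha0
    obtain ⟨t, ht, ht1⟩ := hS (d⁻¹ * g) (by
      rw [rho_mul, ha, ← hd0, rho_inv_apply])
    refine ⟨a, t, ha0, ht, ha, ?_⟩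
    rw [rho_mul] at ht1
    have h := congrArg (ρ d) ht1
    rw [← rho_mul, mul_inv_cancel, rho_one, map_smul, hd1, smul_smul] at h
    exact h
  let F : (Fin 2 → ZMod q) →ₗ[ZMod q] V :=
    (LinearMap.proj 0).smulRight e0 + (LinearMap.proj 1).smulRight e1
  have hF : ∀ u, F u = u 0 • e0 + u 1 • e1 := fun u => rfl
  have hFbij : Function.Bijective F := by
    constructor
    · intro u u' h
      rw [hF, hF] at h
      obtain ⟨h1, h2⟩ := eq_of_add T.hAC (A.smul_mem _ he0) (A.smul_mem _ he0) (C.smul_mem _ he1)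
        (C.smul_mem _ he1) h
      funext i
      fin_cases i
      · exact smul_left_injective _ he00 h1
      · exact smul_left_injective _ he10 h2
    · intro x
      obtain ⟨a, ha, c, hc, rfl⟩ := Submodule.mem_sup.1
        (show x ∈ A ⊔ C by rw [T.hAC.sup_eq_top]; exact Submodule.mem_top)
      obtain ⟨s, rfl⟩ := exists_smul_of_card hcard he0 he00 ha
      obtain ⟨t, rfl⟩ := exists_smul_of_card hcardC he1 he10 hc
      exact ⟨![s, t], by simp [hF]⟩
  let e : V ≃ₗ[ZMod q] (Fin 2 → ZMod q) := (LinearEquiv.ofBijective F hFbij).symm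
  have heval : ∀ (g : G) (u : Fin 2 → ZMod q) (w : Fin 2 → ZMod q),
      ρ g (F u) = F w → (e.symm.trans ((ρ g).trans e)) u = w := by
    intro g u w h
    show e (ρ g (e.symm u)) = w
    rw [show e.symm u = F u from rfl, h]
    exact (LinearEquiv.ofBijective F hFbij).symm_apply_apply w
  have hlin : ∀ (g : G) u, ρ g (F u) = u 0 • ρ g e0 + u 1 • ρ g e1 := fun g u => by
    rw [hF, map_add, map_smul, map_smul]
  refine ⟨e, fun f => ⟨?_, ?_⟩⟩
  · rintro ⟨g, rfl⟩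
    rcases T.hperm g with ⟨h, -⟩ | ⟨h, h'⟩
    · obtain ⟨a, t, ha, ht, h0, h1⟩ := hdiag g (h e0 he0)
      refine ⟨a, t, ha, ht, Or.inl fun u => heval g u _ ?_⟩
      rw [hlin, hF, h0, h1]
      simp [smul_smul, mul_comm]
    · obtain ⟨a, t, ha, ht, h0, h1⟩ := hdiag (τ * g) (by
        rw [rho_mul]
        rcases T.hperm τ with ⟨k, -⟩ | ⟨-, k⟩
        · exact absurd (zero_of_both T.hAC (hτ0 ▸ k e0 he0) he1) he10
        · exact k _ (h e0 he0))
      have hττ : τ * τ = 1 := hext _ _ (by rw [rho_mul, hτ0, hτ1, rho_one])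
        (by rw [rho_mul, hτ1, hτ0, rho_one])
      have hb0 : ρ g e0 = a • e1 := by
        rw [show g = τ * (τ * g) by rw [← mul_assoc, hττ, one_mul], rho_mul, h0, map_smul, hτ0]
      have hb1' : ρ g e1 = (t * a⁻¹) • e0 := by
        rw [show g = τ * (τ * g) by rw [← mul_assoc, hττ, one_mul], rho_mul, h1, map_smul, hτ1]
      refine ⟨a, t, ha, ht, Or.inr fun u => heval g u _ ?_⟩
      rw [hlin, hF, hb0, hb1']
      simp [smul_smul, mul_comm, add_comm]
  · rintro ⟨a, t, ha, ht, hf⟩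
    obtain ⟨d, hd0, hd1⟩ := hD a ha
    obtain ⟨σ, hσ0, hσ1⟩ : ∃ σ : G, ρ σ e0 = e0 ∧ ρ σ e1 = t • e1 := by
      rcases ht with rfl | rfl
      · exact ⟨1, rho_one ρ _, by rw [rho_one, one_smul]⟩
      · exact ⟨s, s.2, by rw [hb, hbb]⟩
    rcases hf with hf | hf
    · refine ⟨d * σ, LinearEquiv.ext fun u => (hf u).trans (heval _ u _ ?_).symm⟩
      rw [hlin, hF, rho_mul, rho_mul, hσ0, hd0, hσ1, map_smul, hd1]
      simp [smul_smul, mul_comm, mul_left_comm]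
    · refine ⟨τ * (d * σ), LinearEquiv.ext fun u => (hf u).trans (heval _ u _ ?_).symm⟩
      rw [hlin, hF, rho_mul ρ τ, rho_mul ρ τ, rho_mul, rho_mul, hσ0, hd0, hσ1]
      simp [map_smul, hd0, hd1, smul_smul, hτ0, hτ1, mul_comm, mul_left_comm, add_comm]

end Cfsg.Lib.Recog.HalfTrans
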