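import Cfsg.Prelude.Def_OddOrderLocal
import Cfsg.Agent.S0016
import Cfsg.Agent.S0519
import Cfsg.Agent.Lib.PGroup.Basic
import Cfsg.Agent.Lib.PGroup.FrobeniusType
import Cfsg.Agent.Lib.Invol.Quaternion
import Cfsg.Agent.Lib.Recog.HalfTransitive.Blocks
import Cfsg.Agent.Lib.Recog.HalfTransitive.Two
import Cfsg.Agent.Lib.Recog.HalfTransitive.Axial

/-!
Half-transitive linear p-groups: assembling the cases.
-/

set_option autoImplicit false
set_option linter.unusedSectionVars false

namespace Cfsg.Lib.Recog.HalfTrans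

variable {q : ℕ} [hq : Fact q.Prime] {V : Type*} [AddCommGroup V] [Module (ZMod q) V] [Finite V]
  [Nontrivial V] {G : Type*} [Group G] [Finite G] (ρ : G →* (V ≃ₗ[ZMod q] V)) {p : ℕ} [hp : Fact p.Prime]

theorem trivial_of_eq (hG : IsPGroup q G) (hρ : Function.Injective ρ) (hhalf : Half ρ) :
    Subsingleton G := by
  letI : MulAction G V :=
    { smul := fun g u => ρ g u, one_smul := rho_one ρ, mul_smul := rho_mul ρ }
  have hdvd : q ∣ Nat.card V := by
    rw [Module.natCard_eq_pow_finrank (K := ZMod q) (V := V), Nat.card_zmod]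
    exact dvd_pow_self q Module.finrank_pos.ne'
  obtain ⟨u, hu, hu0⟩ := hG.exists_fixed_point_of_prime_dvd_card_of_fixed_point V hdvd
    (a := (0 : V)) (fun g => map_zero (ρ g))
  have hu' : ∀ g, ρ g u = u := hu
  refine ⟨fun g h => hρ (LinearEquiv.ext fun v => ?_)⟩
  have key : ∀ g, ρ g v = v := by
    by_cases hv : v = 0
    · intro g; rw [hv, map_zero]
    intro g
    have hc := card_stab_eq ρ hhalf hv (Ne.symm hu0)
    have htop : stab ρ u = ⊤ := eq_top_iff.2 fun g _ => hu' g
    rw [htop, Subgroup.card_top] at hc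
    have : g ∈ stab ρ v := (Subgroup.eq_top_of_card_eq _ hc).symm ▸ Subgroup.mem_top g
    exact this
  rw [key g, key h]

theorem natCard_ne_zero (hG : IsPGroup p G) (hpq : p ≠ q) : (Nat.card G : ZMod q) ≠ 0 := by
  obtain ⟨k, hk⟩ := IsPGroup.iff_card.1 hG
  rw [hk, Nat.cast_pow]
  exact pow_ne_zero _ (natCast_ne_zero_of_prime hpq)

theorem cyclic_or_quaternion_of_semiregular (hG : IsPGroup p G) (hpq : p ≠ q) (hs : Semiregular ρ) :
    IsCyclic G ∨ ∃ n : ℕ, Nonempty (G ≃* QuaternionGroup n) := by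
  rcases subsingleton_or_nontrivial G with h | h
  · exact Or.inl inferInstance
  obtain ⟨z, -, hzc, hzo⟩ :=
    Cfsg.Lib.PGroup.exists_mem_center_orderOf_eq hG (N := (⊤ : Subgroup G)) top_ne_bot
  have hz1 : z ≠ 1 := fun h => hp.out.ne_one (by rw [← hzo, h, orderOf_one])
  have key : ∀ H : Subgroup G, Nat.card H = p → H = Subgroup.zpowers z := by
    intro H hH
    refine Subgroup.eq_of_le_of_card_ge (fun y hy => ?_) (by rw [Nat.card_zpowers, hzo, hH])
    have hyp : y ^ p = 1 := by
      have := pow_card_eq_one' (x := (⟨y, hy⟩ : H))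
      rw [hH] at this
      exact congrArg Subtype.val this
    exact mem_zpowers_of_semiregular ρ hpq hs (by rw [← hzo, pow_orderOf_eq_one]) hyp
      (Subgroup.mem_center_iff.1 hzc y) hz1
  rcases Cfsg.Agent.S0016.result p hG (fun H K hH hK => (key H hH).trans (key K hK).symm) with
    h | ⟨-, n, hn⟩
  · exact Or.inl h
  · exact Or.inr ⟨_, hn⟩

theorem free_of_center (hρ : Function.Injective ρ) (hhalf : Half ρ) (hG : IsPGroup p G) (hpq : p ≠ q)
    (hns : ¬ Semiregular ρ) {z : G} (hz : ∀ g : G, Commute g z) (hz1 : z ≠ 1) :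
    ∀ v, ρ z v = v → v = 0 := by
  intro v hv
  rcases irreducible_or_semiregular ρ hρ hhalf (natCard_ne_zero hG hpq) hns (fix ρ z) (fun g w hw => by
    rw [mem_fix, ← rho_mul, ← (hz g).eq, rho_mul, (mem_fix ρ).1 hw]) with h | h
  · have : v ∈ fix ρ z := hv
    rw [h] at this
    exact (Submodule.mem_bot _).1 this
  · exfalso
    refine hz1 (hρ (LinearEquiv.ext fun u => ?_))
    rw [rho_one]
    exact (mem_fix ρ).1 (h ▸ Submodule.mem_top)

theorem no_unique (hhalf : Half ρ) (hG : IsPGroup p G) (hns : ¬ Semiregular ρ) {z : G} (hzo : orderOf z = p)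
    (hfree : ∀ v, ρ z v = v → v = 0) (huniq : ∀ y : G, orderOf y = p → y ∈ Subgroup.zpowers z) : False := by
  refine hns fun v hv g hg => ?_
  by_contra hg1
  haveI : Nontrivial (stab ρ v) := ⟨⟨⟨g, hg⟩, 1, fun h => hg1 (congrArg Subtype.val h)⟩⟩
  obtain ⟨k, hk⟩ := IsPGroup.iff_card.1 (hG.to_subgroup (stab ρ v))
  have hk0 : k ≠ 0 := fun h0 => by
    have := Finite.one_lt_card (α := stab ρ v)
    rw [hk, h0, pow_zero] at this
    omega
  obtain ⟨y, hy⟩ := exists_prime_orderOf_dvd_card' (G := stab ρ v) p (hk ▸ dvd_pow_self p hk0)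
  have hyG : orderOf (y : G) = p := by rw [Subgroup.orderOf_coe, hy]
  have he : Subgroup.zpowers (y : G) = Subgroup.zpowers z :=
    Subgroup.eq_of_le_of_card_ge (Subgroup.zpowers_le.2 (huniq _ hyG))
      (by rw [Nat.card_zpowers, Nat.card_zpowers, hyG, hzo])
  have hz : z ∈ stab ρ v := Subgroup.zpowers_le.2 y.2 (he ▸ Subgroup.mem_zpowers z)
  exact hv (hfree v hz)

theorem exists_pair (hG : IsPGroup p G) {z : G} (hzo : orderOf z = p) (hzc : ∀ g : G, Commute g z)
    (hfree : ∀ v, ρ z v = v → v = 0) (A : Subgroup G) [hAn : A.Normal] (hA : IsMulCommutative A)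
    (hAc : ¬ IsCyclic A) : ∃ y : G, Pair ρ p z y := by
  have hz : z ^ p = 1 := by rw [← hzo, pow_orderOf_eq_one]
  have hcomm : ∀ a ∈ A, ∀ b ∈ A, a * b = b * a := fun a ha b hb =>
    congrArg Subtype.val (hA.is_comm.comm (⟨a, ha⟩ : A) ⟨b, hb⟩)
  let T : Subgroup G :=
    { carrier := {x | x ∈ A ∧ x ^ p = 1}
      one_mem' := ⟨one_mem _, one_pow _⟩
      mul_mem' := fun {a b} ha hb => ⟨mul_mem ha.1 hb.1, by
        rw [(show Commute a b from hcomm a ha.1 b hb.1).mul_pow, ha.2, hb.2, one_mul]⟩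
      inv_mem' := fun {a} ha => ⟨inv_mem ha.1, by rw [inv_pow, ha.2, inv_one]⟩ }
  haveI : T.Normal := ⟨fun a ha g => ⟨hAn.conj_mem a ha.1 g, by rw [conj_pow, ha.2, mul_one, mul_inv_cancel]⟩⟩
  have hT : ¬ T ≤ Subgroup.zpowers z := by
    intro hle
    apply hAc
    have huniq : ∀ H K : Subgroup A, Nat.card H = p → Nat.card K = p → H = K := by
      have key : ∀ H : Subgroup A, Nat.card H = p → H.map A.subtype = Subgroup.zpowers z := by
        intro H hH
        have hcard : Nat.card (H.map A.subtype) = p := by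
          rw [Subgroup.card_map_of_injective A.subtype_injective, hH]
        refine Subgroup.eq_of_le_of_card_ge ?_ (by rw [Nat.card_zpowers, hzo, hcard])
        rintro _ ⟨y, hy, rfl⟩
        refine hle ⟨y.2, ?_⟩
        have := pow_card_eq_one' (x := (⟨y, hy⟩ : H))
        rw [hH] at this
        exact congrArg (fun w : H => ((w : A) : G)) this
      exact fun H K hH hK => Subgroup.map_injective A.subtype_injective ((key H hH).trans (key K hK).symm)
    rcases Cfsg.Agent.S0016.result p (hG.to_subgroup A) huniq with h | ⟨-, m, ⟨e⟩⟩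
    · exact h
    · rcases Nat.eq_zero_or_pos m with rfl | hm
      · haveI : IsCyclic (QuaternionGroup (2 ^ 0)) := QuaternionGroup.quaternionGroup_one_isCyclic
        exact isCyclic_of_surjective e.symm.toMonoidHom e.symm.surjective
      · exfalso
        have h := congrArg e (hA.is_comm.comm (e.symm (QuaternionGroup.a 1)) (e.symm (QuaternionGroup.xa 0)))
        rw [map_mul, map_mul, e.apply_symm_apply, e.apply_symm_apply, QuaternionGroup.a_mul_xa,
          QuaternionGroup.xa_mul_a, QuaternionGroup.xa.injEq] at h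
        have h2 : ((2 : ℕ) : ZMod (2 * 2 ^ m)) = 0 := by
          push_cast
          linear_combination -h
        rw [ZMod.natCast_eq_zero_iff] at h2
        have := Nat.le_of_dvd (by omega) h2
        have : 2 ≤ 2 ^ m := Nat.le_self_pow (by omega) 2
        omega
  have hZn : (Subgroup.zpowers z).Normal := ⟨fun a ha g => by
    obtain ⟨k, rfl⟩ := Subgroup.mem_zpowers_iff.1 ha
    rw [((hzc g).zpow_right k).eq, mul_inv_cancel_right]
    exact ha⟩
  let π := QuotientGroup.mk' (Subgroup.zpowers z)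
  haveI : (T.map π).Normal := Subgroup.Normal.map inferInstance π (QuotientGroup.mk'_surjective _)
  have hne : T.map π ≠ ⊥ := fun h => hT (by
    have := (Subgroup.map_eq_bot_iff T).1 h
    rwa [QuotientGroup.ker_mk'] at this)
  obtain ⟨_, ⟨y, hy, rfl⟩, hyc, hyo⟩ :=
    Cfsg.Lib.PGroup.exists_mem_center_orderOf_eq (hG.to_quotient (Subgroup.zpowers z)) hne
  refine ⟨y, hz, hy.2, hzc, hfree, fun h => ?_, fun g => ?_⟩
  · have h1 : π y = 1 := (QuotientGroup.eq_one_iff y).2 h
    rw [h1, orderOf_one] at hyo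
    exact hp.out.ne_one hyo.symm
  · have hmem : y⁻¹ * (g * y * g⁻¹) ∈ Subgroup.zpowers z := by
      refine (QuotientGroup.eq_one_iff _).1 ?_
      show π (y⁻¹ * (g * y * g⁻¹)) = 1
      rw [map_mul, map_mul, map_mul, map_inv, map_inv, Subgroup.mem_center_iff.1 hyc (π g)]
      group
    obtain ⟨i, hi⟩ := mem_powers_iff_mem_zpowers.2 hmem
    exact ⟨i, by
      have : z ^ i = y⁻¹ * (g * y * g⁻¹) := hi
      rw [this, mul_inv_cancel_left]⟩

theorem blocks_case (hρ : Function.Injective ρ) (hhalf : Half ρ) (hG : IsPGroup p G) (hpq : p ≠ q)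
    (hns : ¬ Semiregular ρ) {z y : G} (P : Pair ρ p z y) :
    (Nat.card V = q ^ 2 ∧ (∃ m : ℕ, q = 2 ^ m + 1) ∧
      ∃ e : V ≃ₗ[ZMod q] (Fin 2 → ZMod q), ∀ f : (Fin 2 → ZMod q) ≃ₗ[ZMod q] (Fin 2 → ZMod q),
        (∃ g : G, f = e.symm.trans ((ρ g).trans e)) ↔
        ∃ a s : ZMod q, a ≠ 0 ∧ (s = 1 ∨ s = -1) ∧
          ((∀ v, f v = ![a * v 0, s * a⁻¹ * v 1]) ∨ (∀ v, f v = ![s * a⁻¹ * v 1, a * v 0]))) ∨
    (Nat.card V = 81 ∧ q = 3 ∧ p = 2) := by
  have hp2 : p = 2 := P.eq_two hρ hhalf hpq hns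
  subst hp2
  set A := fix ρ (blockElt z y (0 : ZMod 2)) with hA
  set C := fix ρ (blockElt z y (1 : ZMod 2)) with hC
  have h01 : (0 : ZMod 2) ≠ 1 := zero_ne_one
  have h2cases : ∀ c : ZMod 2, c = 0 ∨ c = 1 := Fin.forall_fin_two.2 ⟨Or.inl rfl, Or.inr rfl⟩
  have hAC : IsCompl A C := by
    refine IsCompl.of_eq (eq_bot_iff.2 ?_) (eq_top_iff.2 fun v _ => ?_)
    · rintro v ⟨h, h'⟩
      exact (Submodule.mem_bot _).2 (P.disjoint h01 h h')
    · have h2 : (2 : ZMod q) ≠ 0 := by simpa using natCast_ne_zero_of_prime (p := 2) hpq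
      have hsum := P.sum_blocks v
      rw [show (Finset.univ : Finset (ZMod 2)) = {0, 1} from rfl, Finset.sum_pair h01] at hsum
      rw [show v = (2 : ZMod q)⁻¹ • avg ρ 2 (blockElt z y (0 : ZMod 2)) v +
          (2 : ZMod q)⁻¹ • avg ρ 2 (blockElt z y (1 : ZMod 2)) v by
        rw [← smul_add, hsum, ← Nat.cast_smul_eq_nsmul (ZMod q), Nat.cast_ofNat, smul_smul,
          inv_mul_cancel₀ h2, one_smul]]
      exact Submodule.add_mem_sup (Submodule.smul_mem _ _ (avg_fix ρ (P.blockElt_pow _) v))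
        (Submodule.smul_mem _ _ (avg_fix ρ (P.blockElt_pow _) v))
  have T : TwoBlocks ρ A C := by
    refine ⟨hAC, ?_, ?_, fun g => ?_⟩
    · obtain ⟨l, hl, v, hv0, hv⟩ := P.exists_other hρ hpq 1
      rcases h2cases l with rfl | rfl
      · exact (Submodule.ne_bot_iff _).2 ⟨v, hv, hv0⟩
      · exact absurd rfl hl
    · obtain ⟨l, hl, v, hv0, hv⟩ := P.exists_other hρ hpq 0
      rcases h2cases l with rfl | rfl
      · exact absurd rfl hl
      · exact (Submodule.ne_bot_iff _).2 ⟨v, hv, hv0⟩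
    · obtain ⟨c, hc⟩ := P.map_block g
      rcases h2cases c with rfl | rfl
      · refine Or.inl ⟨fun v hv => ?_, fun v hv => ?_⟩
        · have := hc 0 v hv; rwa [add_zero] at this
        · have := hc 1 v hv; rwa [add_zero] at this
      · refine Or.inr ⟨fun v hv => ?_, fun v hv => ?_⟩
        · have := hc 0 v hv; rwa [zero_add] at this
        · have := hc 1 v hv; rwa [show (1 : ZMod 2) + 1 = 0 from rfl] at this
  obtain ⟨⟨a, ha⟩, hV⟩ := T.card_eq hρ hhalf hns hG
  have hAcard := Module.natCard_eq_pow_finrank (K := ZMod q) (V := A)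
  rw [Nat.card_zmod] at hAcard
  set d := Module.finrank (ZMod q) A
  have hd : 1 ≤ d := by
    rcases Nat.eq_zero_or_pos d with h | h
    · rw [h, pow_zero, ha] at hAcard
      have : 0 < 2 ^ a := by positivity
      omega
    · exact h
  have hq3 : 3 ≤ q := by
    have := hq.out.two_le
    omega
  rcases eq_one_or_nine hd hq3 (hq.out.odd_of_ne_two (Ne.symm hpq)) (hAcard.symm.trans ha) with h | ⟨h3, h2⟩
  · rw [h, pow_one] at hAcard
    left
    refine ⟨by rw [hV, hAcard, pow_two], ⟨a, hAcard ▸ ha⟩,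
      T.monomial hρ hhalf hns (Ne.symm hpq) hAcard ?_⟩
    have := Nat.card_congr (Submodule.prodEquivOfIsCompl A C hAC).toEquiv
    rw [Nat.card_prod, hV, hAcard] at this
    exact Nat.eq_of_mul_eq_mul_left hq.out.pos this
  · right
    subst h3
    rw [h2] at hAcard
    exact ⟨by rw [hV, hAcard]; norm_num, rfl, rfl⟩

theorem axial_case (hρ : Function.Injective ρ) (hhalf : Half ρ) (hG : IsPGroup 2 G) (hq2 : 2 ≠ q)
    (hns : ¬ Semiregular ρ) {a r : ℕ} (ha : 3 ≤ a) (hr : r = 2 ^ a - 1 ∨ r = 2 ^ (a - 1) - 1)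
    {x y : G} (hx : orderOf x = 2 ^ a) (hy : y * y = 1) (hyx : y * x * y⁻¹ = x ^ r)
    (hy' : y ∉ Subgroup.zpowers x) (hcard : Nat.card G = 2 * 2 ^ a) :
    Nat.card V = q ^ 2 ∧
      ((r = 2 ^ a - 1 ∧ q + 1 = 2 ^ a) ∨ (r = 2 ^ (a - 1) - 1 ∧ q + 1 = 2 ^ (a - 1))) := by
  classical
  obtain ⟨b, rfl⟩ : ∃ b, a = b + 3 := ⟨a - 3, by omega⟩
  set N := 2 ^ (b + 3) with hN
  have hb : 0 < 2 ^ b := by positivity
  have hN8 : N = 8 * 2 ^ b := by rw [hN, pow_add]; ring
  have hhalfN : 2 ^ (b + 3 - 1) = 4 * 2 ^ b := by rw [show b + 3 - 1 = b + 2 by omega, pow_add]; ring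
  set M := 4 * 2 ^ b with hM
  have hr' : r = N - 1 ∨ r = M - 1 := by rw [← hhalfN]; exact hr
  have hxn : x ^ N = 1 := by rw [← hx, pow_orderOf_eq_one]
  have hidx : (Subgroup.zpowers x).index = 2 := by
    have h := (Subgroup.zpowers x).card_mul_index
    rw [Nat.card_zpowers, hx, hcard, mul_comm 2] at h
    exact Nat.eq_of_mul_eq_mul_left (by omega) h
  have hyi : y⁻¹ = y := inv_eq_of_mul_eq_one_right hy
  have hyxi : ∀ i : ℕ, y * x ^ i = x ^ (r * i) * y := fun i => by
    have := conj_pow (i := i) (a := y) (b := x)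
    rw [hyx, ← pow_mul] at this
    exact mul_inv_eq_iff_eq_mul.1 this.symm
  have hform : ∀ g, g ∉ Subgroup.zpowers x → ∃ i < N, g = x ^ i * y := by
    intro g hg
    have hgy : g * y ∈ Subgroup.zpowers x :=
      (Subgroup.mul_mem_iff_of_index_two hidx).2 ⟨fun h => absurd h hg, fun h => absurd h hy'⟩
    obtain ⟨i, hi⟩ := mem_powers_iff_mem_zpowers.2 hgy
    refine ⟨i % N, Nat.mod_lt _ (by omega), ?_⟩
    have hi' : x ^ i = g * y := hi
    rw [← hx, pow_mod_orderOf, hi', mul_assoc, hy, mul_one]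
  set z := x ^ M with hzdef
  have hz1 : z ≠ 1 := by
    intro h
    have h' := orderOf_dvd_of_pow_eq_one h
    rw [hx] at h'
    have := Nat.le_of_dvd (by omega) h'
    omega
  have hrodd : ∃ k, r = 2 * k + 1 := by
    rcases hr' with h | h
    · exact ⟨4 * 2 ^ b - 1, by omega⟩
    · exact ⟨2 * 2 ^ b - 1, by omega⟩
  have hyz : y * z = z * y := by
    rw [hzdef, hyxi]
    congr 1
    obtain ⟨k, hk⟩ := hrodd
    rw [hk, show (2 * k + 1) * M = N * k + M by rw [hN8, hM]; ring, pow_add, pow_mul, hxn, one_pow,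
      one_mul]
  have hzc : ∀ g : G, Commute g z := by
    intro g
    by_cases hg : g ∈ Subgroup.zpowers x
    · obtain ⟨k, rfl⟩ := Subgroup.mem_zpowers_iff.1 hg
      exact ((Commute.refl x).pow_right M).zpow_left k
    · obtain ⟨i, -, rfl⟩ := hform g hg
      exact (((Commute.refl x).pow_pow i M)).mul_left hyz
  have hzz : z * z = 1 := by rw [hzdef, ← pow_add, show M + M = N by omega, hxn]
  have hfree := free_of_center ρ hρ hhalf hG hq2 hns hzc hz1
  have hzneg : ∀ v, ρ z v = -v := fun v =>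
    eq_neg_of_add_eq_zero_left (hfree _ (by rw [map_add, ← rho_mul, hzz, rho_one, add_comm]))
  have hcyc : ∀ g ∈ Subgroup.zpowers x, ∀ v : V, v ≠ 0 → ρ g v = v → g = 1 := by
    intro g hg v hv hgv
    by_contra hg1
    obtain ⟨k, hk⟩ := IsPGroup.iff_orderOf.1 hG g
    obtain ⟨k, rfl⟩ : ∃ k', k = k' + 1 := by
      refine ⟨k - 1, ?_⟩
      rcases k with _ | k
      · exact absurd (orderOf_eq_one_iff.1 hk) hg1
      · omega
    set w := g ^ 2 ^ k with hw
    have hw2 : w * w = 1 := by
      rw [hw, ← pow_add, ← two_mul, ← pow_succ', ← hk, pow_orderOf_eq_one]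
    have hw1 : w ≠ 1 := fun h => by
      have h' := orderOf_dvd_of_pow_eq_one h
      rw [hk] at h'
      have h2 := Nat.le_of_dvd (by positivity) h'
      have h3 : 2 ^ (k + 1) = 2 * 2 ^ k := pow_succ' 2 k
      have h4 : 0 < 2 ^ k := by positivity
      omega
    obtain ⟨j, hj⟩ := mem_powers_iff_mem_zpowers.2 (pow_mem hg (2 ^ k))
    have hj' : x ^ j = w := hj
    have hjmod : x ^ (j % N) = w := by rw [← hx, pow_mod_orderOf, hj']
    have hdvd : N ∣ j % N + j % N := by
      rw [← hx]; refine orderOf_dvd_of_pow_eq_one ?_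
      rw [hx, pow_add, hjmod, hw2]
    have hjlt : j % N < N := Nat.mod_lt _ (by omega)
    have hjne : j % N ≠ 0 := fun h => hw1 (by rw [← hjmod, h, pow_zero])
    have hjM : j % N = M := by
      obtain ⟨c, hc⟩ := hdvd
      rcases c with _ | _ | c
      · omega
      · omega
      · nlinarith
    rw [hjM] at hjmod
    refine hv (hfree v ?_)
    rw [hzdef, hjmod]
    exact rho_pow_fix ρ hgv _
  have hsq : ∀ i, (x ^ i * y) * (x ^ i * y) = x ^ (i + r * i) := fun i => by
    rw [mul_assoc, ← mul_assoc y, hyxi, mul_assoc, hy, mul_one, pow_add]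
  have hnot : ∀ i, x ^ i * y ∉ Subgroup.zpowers x := fun i h => hy'
    (by simpa using mul_mem (inv_mem (pow_mem (Subgroup.mem_zpowers x) i)) h)
  set I := ((Finset.range N).filter fun i => N ∣ i + r * i).image fun i => x ^ i * y with hI
  have hIcard : I.card = ((Finset.range N).filter fun i => N ∣ i + r * i).card := by
    refine Finset.card_image_of_injOn fun i hi j hj hij => ?_
    simp only [Finset.coe_filter, Finset.mem_range, Set.mem_setOf_eq] at hi hj
    exact pow_injOn_Iio_orderOf (by simp [hx]; exact hi.1) (by simp [hx]; exact hj.1)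
      (mul_right_cancel hij)
  obtain ⟨d, hd, hV, hdI⟩ := axial_count ρ (I := I) hzneg (by
      intro s hs
      obtain ⟨i, hi, rfl⟩ := Finset.mem_image.1 hs
      rw [Finset.mem_filter] at hi
      rw [hsq]
      exact orderOf_dvd_iff_pow_eq_one.1 (hx ▸ hi.2))
    (by
      intro s hs
      obtain ⟨i, -, rfl⟩ := Finset.mem_image.1 hs
      obtain ⟨j, hj⟩ : ∃ j, j = 2 * 2 ^ b := ⟨_, rfl⟩
      refine ⟨x ^ j, ?_⟩
      rw [mul_inv_eq_iff_eq_mul, mul_assoc (x ^ i) y z, hyz, hzdef, mul_assoc (x ^ i) (x ^ M * y),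
        mul_assoc (x ^ M), hyxi, ← mul_assoc, ← mul_assoc, ← mul_assoc, ← pow_add, ← pow_add, ← pow_add]
      congr 1
      rw [pow_eq_pow_iff_modEq, hx]
      rcases hr' with h | h
      · have he : i + M + r * j = (j + i) + N * j := by
          have : r * j + j = N * j := by rw [← Nat.succ_mul]; congr 1; omega
          omega
        rw [he]
        simp [Nat.ModEq, Nat.add_mul_mod_self_left]
      · have he : i + M + r * j = (j + i) + N * 2 ^ b := by
          have : r * j + j = M * j := by rw [← Nat.succ_mul]; congr 1; omega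
          have : M * j = N * 2 ^ b := by rw [hj, hN8, hM]; ring
          omega
        rw [he]
        simp [Nat.ModEq, Nat.add_mul_mod_self_left])
    (by simpa using natCast_ne_zero_of_prime (p := 2) hq2)
    (by
      intro v hv
      by_contra hc
      push Not at hc
      refine hns ?_
      obtain ⟨w0, hw0⟩ := exists_ne (0 : V)
      refine semiregular_of_common ρ hρ hhalf (stab ρ v) hv rfl fun g hg u => ?_
      have hg1 : g = 1 := by
        by_contra hg1
        haveI : Nontrivial (stab ρ v) := ⟨⟨⟨g, hg⟩, 1, fun h => hg1 (congrArg Subtype.val h)⟩⟩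
        obtain ⟨k, hk⟩ := IsPGroup.iff_card.1 (hG.to_subgroup (stab ρ v))
        have hk0 : k ≠ 0 := fun h0 => by
          have := Finite.one_lt_card (α := stab ρ v)
          rw [hk, h0, pow_zero] at this
          omega
        obtain ⟨w, hw⟩ := exists_prime_orderOf_dvd_card' (G := stab ρ v) 2 (hk ▸ dvd_pow_self 2 hk0)
        have hwG : orderOf (w : G) = 2 := by rw [Subgroup.orderOf_coe, hw]
        have hwx : (w : G) ∉ Subgroup.zpowers x := fun h => by
          rw [hcyc _ h v hv w.2, orderOf_one] at hwG; omega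
        obtain ⟨i, hiN, hwi⟩ := hform _ hwx
        refine hc (x ^ i * y) (Finset.mem_image.2 ⟨i, Finset.mem_filter.2 ⟨Finset.mem_range.2 hiN, ?_⟩, rfl⟩)
          (hwi ▸ w.2)
        rw [← hx]
        refine orderOf_dvd_of_pow_eq_one ?_
        rw [← hsq, ← hwi, ← pow_two, ← hwG, pow_orderOf_eq_one]
      rw [hg1, rho_one])
    (by
      intro v hv s hs s' hs' h h'
      obtain ⟨i, hi, rfl⟩ := Finset.mem_image.1 hs
      obtain ⟨i', hi', rfl⟩ := Finset.mem_image.1 hs'
      have hinv : x ^ i' * y * (x ^ i' * y) = 1 := by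
        rw [hsq]
        exact orderOf_dvd_iff_pow_eq_one.1 (hx ▸ (Finset.mem_filter.1 hi').2)
      have h1 : x ^ i * y * (x ^ i' * y) = 1 := hcyc _
        ((Subgroup.mul_mem_iff_of_index_two hidx).2
          ⟨fun h => absurd h (hnot i), fun h => absurd h (hnot i')⟩)
        v hv (by rw [rho_mul, h', h])
      exact mul_right_cancel (h1.trans hinv.symm))
  have hq3 : 3 ≤ q := by have := hq.out.two_le; omega
  have hqodd : Odd q := hq.out.odd_of_ne_two (Ne.symm hq2)
  rcases hr' with h | h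
  · have hc : ((Finset.range N).filter fun i => N ∣ i + r * i).card = N := by
      rw [Finset.filter_true_of_mem fun i _ => ⟨i, by
        rw [h]
        have : (N - 1) * i + i = N * i := by rw [← Nat.succ_mul]; congr 1; omega
        omega⟩, Finset.card_range]
    rw [hIcard, hc] at hdI
    have hd1 := eq_one_of_pow_two_add_one hd hq3 hqodd hdI
    subst hd1
    rw [pow_one] at hdI
    exact ⟨hV, Or.inl ⟨h, hdI⟩⟩
  · have hc : ((Finset.range N).filter fun i => N ∣ i + r * i).card = M := by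
      have himg : ((Finset.range N).filter fun i => N ∣ i + r * i) =
          (Finset.range M).image (fun i => 2 * i) := by
        ext i
        simp only [Finset.mem_filter, Finset.mem_range, Finset.mem_image]
        have hmul : i + r * i = M * i := by
          rw [h]
          have : (M - 1) * i + i = M * i := by rw [← Nat.succ_mul]; congr 1; omega
          omega
        rw [hmul]
        constructor
        · rintro ⟨hi, hdvd⟩
          rw [show N = M * 2 by omega] at hdvd
          obtain ⟨c, rfl⟩ := Nat.dvd_of_mul_dvd_mul_left (by omega) hdvd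
          exact ⟨c, by omega, rfl⟩
        · rintro ⟨c, hc, rfl⟩
          exact ⟨by omega, ⟨c, by rw [show N = 2 * M by omega]; ring⟩⟩
      rw [himg, Finset.card_image_of_injective _ (fun a b hab => by simpa using hab), Finset.card_range]
    rw [hIcard, hc] at hdI
    have hdI' : q ^ d + 1 = 2 ^ (b + 2) := by rw [hdI, hM, pow_add]; ring
    have hd1 := eq_one_of_pow_two_add_one hd hq3 hqodd hdI'
    subst hd1
    rw [pow_one] at hdI
    exact ⟨hV, Or.inr ⟨by rw [hhalfN]; exact h, by rw [hhalfN]; exact hdI⟩⟩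

end Cfsg.Lib.Recog.HalfTrans
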